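import Cfsg.Agent.H1.Shult.CyclicHH

/-!
Hall–Higman for an automorphism of arbitrary order `N`, semiregular modulo the centre of a group of class
two: without fixed vectors, `|Q / Z(Q)| = (N - 1) ^ 2`, every other `N`-th root is an eigenvalue, and the
operator is the tensor product with a scalar on the commutant.
-/

set_option autoImplicit false
set_option linter.style.haveILetI false

namespace H1.Shult

open Module Subgroup
open Cfsg.Agent.H29 (eigProj sum_eigProj mul_eigProj eigProj_apply_of_eigenvector subalgebra_eq_top_of_irreducible)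

/-- The integral part of the argument. -/
theorem dims_eq {N d o : ℕ} (hN : 0 < N) (a : Fin N → ℕ) (ha0 : a ⟨0, hN⟩ = 0) (hd : 2 ≤ d)
    (hsum : ∑ i, a i = d) (hsq : ∑ i, a i ^ 2 ≤ o) (ho : d ^ 2 + N = N * o + 1) :
    N - 1 = d ∧ ∀ i : Fin N, i ≠ ⟨0, hN⟩ → a i = 1 := by
  classical
  set s := Finset.univ.erase (⟨0, hN⟩ : Fin N) with hs
  have hs0 : s.card = N - 1 := by rw [hs, Finset.card_erase_of_mem (Finset.mem_univ _)]; simp
  have e1 : ∑ i ∈ s, a i = d := by rw [hs, Finset.sum_erase _ ha0, hsum]
  have e2 : ∑ i ∈ s, a i ^ 2 ≤ o := (Finset.sum_le_sum_of_subset (Finset.subset_univ _)).trans hsq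
  have hle : ∀ i ∈ s, a i ≤ a i ^ 2 := fun i _ => Nat.le_self_pow (by norm_num) _
  have h1 : d ≤ o := (e1 ▸ Finset.sum_le_sum hle).trans e2
  have h2 : d ^ 2 ≤ (N - 1) * o := by
    have := sq_sum_le_card_mul_sum_sq (s := s) (f := a)
    rw [e1, hs0] at this
    exact this.trans (Nat.mul_le_mul_left _ e2)
  obtain ⟨N', rfl⟩ : ∃ N', N = N' + 1 := ⟨N - 1, by omega⟩
  simp only [Nat.add_sub_cancel] at h2 hs0 ⊢
  have hA : d ≤ N' := by
    by_contra h
    have h' : (N' + 1) * (N' + 1) ≤ d * d := Nat.mul_le_mul (by omega) (by omega)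
    nlinarith
  have hB : N' ≤ d := by
    by_contra h
    obtain ⟨c, rfl⟩ : ∃ c, d = c + 1 := ⟨d - 1, by omega⟩
    have h' : (c + 3) * c ≤ (N' + 1) * c := Nat.mul_le_mul_right _ (by omega)
    nlinarith
  obtain rfl : d = N' := le_antisymm hA hB
  refine ⟨rfl, fun i hi => ?_⟩
  have ho' : o = d := by nlinarith
  have h3 : ∑ i ∈ s, a i = ∑ i ∈ s, a i ^ 2 := le_antisymm (Finset.sum_le_sum hle) (by omega)
  have h4 : ∀ j ∈ s, a j ≤ 1 := fun j hj => by
    have := (Finset.sum_eq_sum_iff_of_le hle).mp h3 j hj
    rcases Nat.eq_zero_or_pos (a j) with h0 | h0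
    · omega
    · rw [sq] at this; nlinarith
  have h5 : ∑ i ∈ s, a i = ∑ i ∈ s, 1 := by rw [e1, Finset.sum_const, hs0, smul_eq_mul, mul_one]
  exact (Finset.sum_eq_sum_iff_of_le h4).mp h5 i (Finset.mem_erase.mpr ⟨hi, Finset.mem_univ _⟩)

/-- The eigenspace dimensions: they add up to the dimension, and their squares to at most the dimension
of the centraliser. -/
theorem eigen_dims {K : Type*} [Field K] {S : Type*} [AddCommGroup S] [Module K S] [FiniteDimensional K S]
    (u : Module.End K S) {r : ℕ} {ζ : K} (hζ : IsPrimitiveRoot ζ r) (hr : (r : K) ≠ 0) (hu : u ^ r = 1) :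
    (∑ i : Fin r, Module.finrank K (Module.End.eigenspace u (ζ ^ (i : ℕ)))) = Module.finrank K S ∧
    ∑ i : Fin r, Module.finrank K (Module.End.eigenspace u (ζ ^ (i : ℕ))) ^ 2 ≤
      Module.finrank K (Subalgebra.centralizer K ({u} : Set (Module.End K S))) := by
  classical
  have hr0 : 0 < r := Nat.pos_of_ne_zero fun h => hr (by rw [h, Nat.cast_zero])
  let Vi : Fin r → Submodule K S := fun i => Module.End.eigenspace u (ζ ^ (i : ℕ))
  have hP : ∀ i v, eigProj u r ζ i v ∈ Vi i := by
    intro i v
    rw [Module.End.mem_eigenspace_iff]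
    exact congrArg (fun f : Module.End K S => f v) (mul_eigProj u hζ hr hu i)
  have hsum : ∀ v, ∑ i, eigProj u r ζ i v = v := by
    intro v
    rw [← LinearMap.sum_apply, sum_eigProj u hζ hr]
    rfl
  have hδ : ∀ (i j : Fin r) (v : S), v ∈ Vi i → eigProj u r ζ j v = if j = i then v else 0 :=
    fun i j v hv => eigProj_apply_of_eigenvector u hζ hr (Module.End.mem_eigenspace_iff.mp hv)
  let D : S ≃ₗ[K] ((i : Fin r) → Vi i) :=
    { toFun := fun v i => ⟨eigProj u r ζ i v, hP i v⟩
      map_add' := fun a b => by funext i; exact Subtype.ext (map_add _ a b)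
      map_smul' := fun c a => by funext i; exact Subtype.ext (map_smul _ c a)
      invFun := fun w => ∑ i, (w i : S)
      left_inv := hsum
      right_inv := fun w => by
        funext j
        apply Subtype.ext
        show eigProj u r ζ j (∑ i, (w i : S)) = _
        rw [map_sum, Finset.sum_congr rfl (fun i _ => hδ i j _ (w i).2)]
        simp }
  have hd : Module.finrank K S = ∑ i, Module.finrank K (Vi i) := by
    rw [D.finrank_eq, Module.finrank_pi_fintype]
  let Φ : ((i : Fin r) → Module.End K (Vi i)) →ₗ[K]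
      Subalgebra.centralizer K ({u} : Set (Module.End K S)) :=
    { toFun := fun g => ⟨∑ i, (Vi i).subtype ∘ₗ g i ∘ₗ (LinearMap.codRestrict (Vi i) (eigProj u r ζ i) (hP i)), by
        rw [Subalgebra.mem_centralizer_iff]
        intro f hf
        rw [Set.mem_singleton_iff] at hf
        subst hf
        refine LinearMap.ext fun v => ?_
        simp only [Module.End.mul_apply, LinearMap.sum_apply, LinearMap.coe_comp, Function.comp_apply,
          Submodule.coe_subtype, map_sum]
        refine Finset.sum_congr rfl fun i _ => ?_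
        rw [Module.End.mem_eigenspace_iff.mp (g i _).2, ← Submodule.coe_smul, ← map_smul]
        congr 2
        apply Subtype.ext
        show ζ ^ (i : ℕ) • eigProj f r ζ i v = eigProj f r ζ i (f v)
        have h1 := congrArg (fun m : Module.End K S => m v) (mul_eigProj f hζ hr hu i)
        simp only [Module.End.mul_apply, LinearMap.smul_apply] at h1
        rw [← h1, ← Module.End.mul_apply, ← Module.End.mul_apply]
        have hcomm : Commute f (eigProj f r ζ i) := by
          unfold eigProj
          exact (Commute.sum_right _ _ _ fun k _ => (Commute.self_pow f k).smul_right _).smul_right _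
        rw [hcomm.eq]⟩
      map_add' := fun g g' => Subtype.ext (by
        refine LinearMap.ext fun v => ?_
        simp [LinearMap.sum_apply, Finset.sum_add_distrib])
      map_smul' := fun c g => Subtype.ext (by
        refine LinearMap.ext fun v => ?_
        simp [LinearMap.sum_apply, Finset.smul_sum]) }
  have hΦ : Function.Injective Φ := by
    intro g g' h
    funext j
    refine LinearMap.ext fun w => ?_
    have h1 := congrArg (fun f : Subalgebra.centralizer K ({u} : Set (Module.End K S)) =>
      (f : Module.End K S) (w : S)) h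
    have hval : ∀ g : (i : Fin r) → Module.End K (Vi i),
        (Φ g : Module.End K S) (w : S) = (g j w : S) := by
      intro g
      show (∑ i, (Vi i).subtype ∘ₗ g i ∘ₗ (LinearMap.codRestrict (Vi i) (eigProj u r ζ i) (hP i))) (w : S) = _
      rw [LinearMap.sum_apply, Finset.sum_eq_single j]
      · simp only [LinearMap.coe_comp, Function.comp_apply, Submodule.coe_subtype]
        congr 2
        exact Subtype.ext ((hδ j j _ w.2).trans (if_pos rfl))
      · intro i _ hij
        simp only [LinearMap.coe_comp, Function.comp_apply, Submodule.coe_subtype]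
        rw [show (LinearMap.codRestrict (Vi i) (eigProj u r ζ i) (hP i)) (w : S) = 0 from
          Subtype.ext ((hδ j i _ w.2).trans (if_neg hij)), map_zero, Submodule.coe_zero]
      · intro h'; exact absurd (Finset.mem_univ j) h'
    simp only [hval] at h1
    exact Subtype.ext h1
  have hle := LinearMap.finrank_le_finrank_of_injective hΦ
  rw [Module.finrank_pi_fintype, Finset.sum_congr rfl (fun i _ => Module.finrank_linearMap K K (Vi i) (Vi i))] at hle
  refine ⟨hd.symm, le_trans (le_of_eq (Finset.sum_congr rfl fun i _ => ?_)) hle⟩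
  exact sq _

/-- Hall–Higman for a cyclic semiregular operator group of arbitrary order. -/
theorem semiregularHH {Q : Type*} [Group Q] [Finite Q] {N : ℕ} (hNpos : 0 < N)
    (hcls : ∀ a b : Q, a * b * a⁻¹ * b⁻¹ ∈ center Q) (hnc : ∃ a : Q, a ∉ center Q)
    (θ : Q ≃* Q) (hθN : ∀ a, (θ : Q → Q)^[N] a = a) (hθZ : ∀ c ∈ center Q, θ c = c)
    (hfree : ∀ k : ℕ, 0 < k → k < N → ∀ a, a⁻¹ * (θ : Q → Q)^[k] a ∈ center Q → a ∈ center Q)
    {K : Type*} [Field K] [IsAlgClosed K] (hNK : (N : K) ≠ 0) {η : K} (hη : IsPrimitiveRoot η N)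
    {W : Type*} [AddCommGroup W] [Module K W] [FiniteDimensional K W] [Nontrivial W]
    (ρ : Q →* Module.End K W) (hρ : Function.Injective ρ)
    (hscalW : ∀ c ∈ center Q, ∃ k : K, ρ c = k • (1 : Module.End K W))
    (u : Module.End K W) (hu : u ^ N = 1) (hfix : ∀ v, u v = v → v = 0)
    (hcomm : ∀ a, u * ρ a = ρ (θ a) * u) :
    3 ≤ N ∧ Nat.card (Q ⧸ center Q) = (N - 1) ^ 2 ∧
      (∀ j, 0 < j → j < N → ∃ w : W, w ≠ 0 ∧ u w = η ^ j • w) ∧
      ∃ W₀ : Submodule K W, W₀ ≠ ⊥ ∧ (∀ a, ∀ w ∈ W₀, ρ a w ∈ W₀) ∧
        (∀ g : Module.End K W, (∀ a, g * ρ a = ρ a * g) → ∀ w ∈ W₀, g w ∈ W₀) ∧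
        (∀ g g' : Module.End K W, (∀ a, g * ρ a = ρ a * g) → (∀ a, g' * ρ a = ρ a * g') →
          u * g = g' * u → ∀ w ∈ W₀, g w = g' w) := by
  classical
  -- a minimal invariant subspace 
  let W0 : Submodule K W := ⊤
  have hW0 : W0 ≠ ⊥ := top_ne_bot
  have hW0inv : ∀ a : Q, ∀ v ∈ W0, ρ a v ∈ W0 := fun _ _ _ => Submodule.mem_top
  obtain ⟨S, ⟨hS0, hSinv, hSle⟩, hSmin⟩ := wellFounded_lt.has_min
    {U : Submodule K W | U ≠ ⊥ ∧ (∀ a : Q, ∀ v ∈ U, ρ a v ∈ U) ∧ U ≤ W0}
    ⟨W0, hW0, hW0inv, le_rfl⟩
  haveI : Nontrivial S := Submodule.nontrivial_iff_ne_bot.mpr hS0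
  let ρS : Q →* Module.End K S :=
    { toFun := fun a => (ρ a).restrict (hSinv a)
      map_one' := by
        refine LinearMap.ext fun v => Subtype.ext ?_
        show ρ 1 (v : W) = _
        rw [map_one]; rfl
      map_mul' := fun a b => by
        refine LinearMap.ext fun v => Subtype.ext ?_
        show ρ (a * b) (v : W) = _
        rw [map_mul]; rfl }
  have hρScoe : ∀ a (v : S), (ρS a v : W) = ρ a (v : W) := fun _ _ => rfl
  have hirr : ∀ U : Submodule K S, (∀ a, ∀ v ∈ U, ρS a v ∈ U) → U = ⊥ ∨ U = ⊤ := by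
    intro U hU
    by_cases h0 : U = ⊥
    · exact Or.inl h0
    right
    by_contra htop
    have hlt : U.map S.subtype < S := by
      refine lt_of_le_of_ne (Submodule.map_subtype_le S U) fun h => htop ?_
      apply Submodule.map_injective_of_injective (f := S.subtype) Subtype.val_injective
      rw [h, Submodule.map_subtype_top]
    refine hSmin (U.map S.subtype) ⟨?_, ?_, le_trans hlt.le hSle⟩ hlt
    · intro h
      exact h0 (Submodule.map_injective_of_injective (f := S.subtype) Subtype.val_injective
        (by rw [h, Submodule.map_bot]))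
    · intro a v hv
      obtain ⟨w, hw, rfl⟩ := Submodule.mem_map.mp hv
      exact Submodule.mem_map.mpr ⟨ρS a w, hU a w hw, rfl⟩
  -- the centre acts by scalars
  have hscal : ∀ c ∈ center Q, ∃ k : K, ρS c = k • (1 : Module.End K S) := by
    intro c hc
    obtain ⟨k, hk⟩ := hscalW c hc
    refine ⟨k, LinearMap.ext fun v => Subtype.ext ?_⟩
    show ρ c (v : W) = k • (v : W)
    rw [hk]; rfl
  have hcenter_inj : ∀ c ∈ center Q, ρS c = 1 → c = 1 := by
    intro c hc h
    obtain ⟨k, hk⟩ := hscalW c hc
    obtain ⟨v, hv⟩ := exists_ne (0 : S)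
    have h1 : k • (v : W) = (v : W) := by
      have := congrArg (fun f : Module.End K S => ((f v : S) : W)) h
      simpa [hρScoe, hk] using this
    have hk1 : k = 1 := by
      by_contra hne
      exact hv (Subtype.ext (smul_right_injective W (sub_ne_zero.mpr hne)
        (show (k - 1) • (v : W) = (k - 1) • (0 : W) by rw [sub_smul, h1, one_smul, sub_self, smul_zero])))
    apply hρ
    rw [hk, hk1, one_smul, map_one]
  have hunit : ∀ a, IsUnit (ρS a) := fun a => by
    refine IsUnit.map ρS (Group.isUnit a)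
  have hcommcenter := hcls
  -- the coset representatives
  let T := Q ⧸ center Q
  haveI : Fintype T := Fintype.ofFinite T
  let out : T → Q := fun t => Quotient.out t
  have hout : ∀ t : T, QuotientGroup.mk (out t) = t := fun t => Quotient.out_eq t
  let b : T → Module.End K S := fun t => ρS (out t)
  have hdecomp : ∀ a : Q, ∃ k : K, ρS a = k • b (QuotientGroup.mk a) := by
    intro a
    obtain ⟨k, hk⟩ := hscal _ (QuotientGroup.eq.mp (hout (QuotientGroup.mk a)))
    refine ⟨k, ?_⟩
    have : a = out (QuotientGroup.mk a) * ((out (QuotientGroup.mk a))⁻¹ * a) := by group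
    conv_lhs => rw [this]
    rw [map_mul, hk, mul_smul_comm, mul_one]
  -- linear independence
  have hindep : ∀ s : Finset T, ∀ c : T → K, ∑ t ∈ s, c t • b t = 0 → ∀ t ∈ s, c t = 0 := by
    intro s
    induction s using Finset.induction with
    | empty => intro c _ t ht; exact absurd ht (Finset.notMem_empty t)
    | @insert t₁ s ht₁ ih =>
      intro c hc
      choose χ hχ using fun (y : Q) (t : T) => hscal _ (hcommcenter y (out t))
      have hconj : ∀ y t, ρS y * b t = χ y t • (b t * ρS y) := by
        intro y t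
        show ρS y * ρS (out t) = _
        rw [← map_mul, show y * out t = (y * out t * y⁻¹ * (out t)⁻¹) * (out t * y) by group,
          map_mul, hχ, smul_mul_assoc, one_mul, map_mul]
      have hs : ∀ t ∈ s, c t = 0 := by
        intro t ht
        by_contra hct
        have hall : ∀ y, χ y t = χ y t₁ := by
          intro y
          have h1 : ∑ x ∈ insert t₁ s, (χ y x * c x) • b x = 0 := by
            have h2 : (∑ x ∈ insert t₁ s, (χ y x * c x) • b x) * ρS y =
                ρS y * ∑ x ∈ insert t₁ s, c x • b x := by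
              rw [Finset.sum_mul, Finset.mul_sum]
              refine Finset.sum_congr rfl fun x _ => ?_
              rw [mul_smul_comm, hconj, smul_smul, smul_mul_assoc, mul_comm (χ y x)]
            rw [hc, mul_zero] at h2
            exact (hunit y).mul_left_eq_zero.mp h2
          have h3 : ∑ x ∈ insert t₁ s, ((χ y x - χ y t₁) * c x) • b x = 0 := by
            have e0 : ∀ x, ((χ y x - χ y t₁) * c x) • b x =
                (χ y x * c x) • b x - χ y t₁ • (c x • b x) := fun x => by
              rw [smul_smul, sub_mul]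
              exact sub_smul (χ y x * c x) (χ y t₁ * c x) (b x)
            rw [Finset.sum_congr rfl (fun x _ => e0 x), Finset.sum_sub_distrib, h1,
              ← Finset.smul_sum, hc, smul_zero, sub_zero]
          rw [Finset.sum_insert ht₁, sub_self, zero_mul, zero_smul, zero_add] at h3
          rcases mul_eq_zero.mp (ih _ h3 t ht) with h | h
          · exact sub_eq_zero.mp h
          · exact absurd h hct
        apply ht₁
        have heq : ∀ y, y * out t * y⁻¹ * (out t)⁻¹ = y * out t₁ * y⁻¹ * (out t₁)⁻¹ := by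
          intro y
          have h4 : ρS (y * out t * y⁻¹ * (out t)⁻¹) = ρS (y * out t₁ * y⁻¹ * (out t₁)⁻¹) := by
            rw [hχ, hχ, hall]
          have := hcenter_inj _ (mul_mem (inv_mem (hcommcenter y (out t₁))) (hcommcenter y (out t)))
            (by rw [map_mul, h4, ← map_mul, inv_mul_cancel, map_one])
          rw [inv_mul_eq_one] at this
          exact this.symm
        have hmem : (out t)⁻¹ * out t₁ ∈ center Q := by
          rw [Subgroup.mem_center_iff]
          intro y
          set w := y * out t * y⁻¹ * (out t)⁻¹ with hw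
          have e1 : y * out t = w * out t * y := by rw [hw]; group
          have e2 : y * out t₁ = w * out t₁ * y := by rw [hw, heq y]; group
          calc y * ((out t)⁻¹ * out t₁)
              = (out t)⁻¹ * w⁻¹ * (y * out t₁) := by
                have e3 : y * (out t)⁻¹ = (out t)⁻¹ * w⁻¹ * y := by rw [hw]; group
                rw [← mul_assoc, e3, mul_assoc]
            _ = (out t)⁻¹ * out t₁ * y := by rw [e2]; group
        have : t = t₁ := by
          rw [← hout t, ← hout t₁]; exact QuotientGroup.eq.mpr hmem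
        exact this ▸ ht
      intro t ht
      rcases Finset.mem_insert.mp ht with rfl | ht'
      · rw [Finset.sum_insert ht₁, Finset.sum_eq_zero (fun x hx => by rw [hs x hx, zero_smul]),
          add_zero] at hc
        exact (smul_eq_zero.mp hc).resolve_right (hunit (out t)).ne_zero
      · exact hs t ht'
  have hli : LinearIndependent K b := by
    rw [Fintype.linearIndependent_iff]
    exact fun g hg t => hindep Finset.univ g hg t (Finset.mem_univ t)
  -- spanning
  have hsmall : ∀ a, ρS a ∈ Submodule.span K (Set.range b) := fun a => by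
    obtain ⟨k, hk⟩ := hdecomp a
    rw [hk]; exact Submodule.smul_mem _ _ (Submodule.subset_span ⟨_, rfl⟩)
  have hspan : ⊤ ≤ Submodule.span K (Set.range b) := by
    have hA : Algebra.adjoin K (Set.range ρS) = ⊤ := by
      apply subalgebra_eq_top_of_irreducible
      intro U hU
      exact hirr U fun a v hv => hU _ (Algebra.subset_adjoin ⟨a, rfl⟩) v hv
    have hB : Subalgebra.toSubmodule (Algebra.adjoin K (Set.range ρS)) =
        Submodule.span K (Set.range ρS) := by
      rw [Algebra.adjoin_eq_span, ← MonoidHom.coe_mrange, Submonoid.closure_eq]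
    rw [hA, Algebra.top_toSubmodule] at hB
    rw [hB, Submodule.span_le]
    rintro _ ⟨a, rfl⟩
    exact hsmall a
  let B : Basis T K (Module.End K S) := Basis.mk hli hspan
  have hB : ∀ t, B t = b t := fun t => Basis.mk_apply hli hspan t
  have hN' : Nat.card T = Module.finrank K S ^ 2 := by
    rw [Nat.card_eq_fintype_card, ← Module.finrank_eq_card_basis B, Module.finrank_linearMap, sq]
  -- the induced permutation
  have hθcenter : (center Q).map θ.toMonoidHom = center Q := by
    ext c
    constructor
    · rintro ⟨d, hd, rfl⟩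
      show θ d ∈ _
      rw [hθZ d hd]; exact hd
    · intro hc; exact ⟨c, hc, hθZ c hc⟩
  let σ : Equiv.Perm T := (QuotientGroup.congr (center Q) (center Q) θ hθcenter).toEquiv
  have hσmk : ∀ a : Q, σ (QuotientGroup.mk a) = QuotientGroup.mk (θ a) := fun a => rfl
  -- the algebra automorphism
  let L : Module.End K S →ₗ[K] Module.End K S := B.constr K fun t => ρS (θ (out t))
  have hL : ∀ a, L (ρS a) = ρS (θ a) := by
    intro a
    obtain ⟨k, hk⟩ := hscal _ (QuotientGroup.eq.mp (hout (QuotientGroup.mk a)))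
    have ha : a = out (QuotientGroup.mk a) * ((out (QuotientGroup.mk a))⁻¹ * a) := by group
    have hc := hθZ _ (QuotientGroup.eq.mp (hout (QuotientGroup.mk a)))
    conv_rhs => rw [ha, map_mul θ, hc, map_mul ρS, hk]
    conv_lhs => rw [ha, map_mul, hk]
    rw [mul_smul_comm, mul_smul_comm, mul_one, mul_one, map_smul]
    congr 1
    show L (b (QuotientGroup.mk a)) = _
    rw [← hB, Basis.constr_basis]
  have hLmul : ∀ f g, L (f * g) = L f * L g := by
    intro f g
    have hf : f ∈ Submodule.span K (Set.range b) := hspan trivial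
    have hg : g ∈ Submodule.span K (Set.range b) := hspan trivial
    induction hf using Submodule.span_induction with
    | zero => simp
    | add x y _ _ hx hy => rw [add_mul, map_add, map_add, add_mul, hx, hy]
    | smul k x _ hx => rw [smul_mul_assoc, map_smul, map_smul, smul_mul_assoc, hx]
    | mem x hx =>
      obtain ⟨t, rfl⟩ := hx
      induction hg using Submodule.span_induction with
      | zero => simp
      | add x y _ _ hx hy => rw [mul_add, map_add, map_add, mul_add, hx, hy]
      | smul k x _ hx => rw [mul_smul_comm, map_smul, map_smul, mul_smul_comm, hx]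
      | mem x hx =>
        obtain ⟨t', rfl⟩ := hx
        show L (ρS (out t) * ρS (out t')) = L (ρS _) * L (ρS _)
        rw [← map_mul ρS, hL, hL, hL, map_mul θ, map_mul ρS]
  have hL1 : L 1 = 1 := by
    rw [← map_one ρS, hL, map_one θ]
  let Λ : Module.End K S →ₐ[K] Module.End K S := AlgHom.ofLinearMap L hL1 hLmul
  have hΛsurj : Function.Surjective L := by
    rw [← LinearMap.range_eq_top, eq_top_iff]
    refine hspan.trans (Submodule.span_le.mpr ?_)
    rintro _ ⟨t, rfl⟩
    refine ⟨ρS (θ.symm (out t)), ?_⟩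
    rw [hL, MulEquiv.apply_symm_apply]
  have hΛbij : Function.Bijective Λ :=
    ⟨(LinearMap.injective_iff_surjective (f := L)).mpr hΛsurj, hΛsurj⟩
  obtain ⟨s, hs⟩ := LinearEquiv.conjAlgEquiv_surjective K S S (AlgEquiv.ofBijective Λ hΛbij)
  have hsL : ∀ f v, s (f v) = L f (s v) := by
    intro f v
    have h1 := congrArg (fun e : Module.End K S ≃ₐ[K] Module.End K S => e f (s v)) hs
    simp only [LinearEquiv.conjAlgEquiv_apply, LinearMap.coe_comp, LinearEquiv.coe_coe,
      Function.comp_apply, LinearEquiv.symm_apply_apply] at h1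
    exact h1
  -- correct the scalar
  let U : Submodule K (S →ₗ[K] W) :=
    { carrier := {φ | ∀ a v, ρ a (φ v) = φ (ρS a v)}
      add_mem' := fun {φ ψ} hφ hψ a v => by
        simp only [LinearMap.add_apply, map_add, hφ a v, hψ a v]
      zero_mem' := fun a v => by simp
      smul_mem' := fun k φ hφ a v => by
        simp only [LinearMap.smul_apply, map_smul, hφ a v] }
  let Tφ : U →ₗ[K] U :=
    { toFun := fun φ => ⟨u ∘ₗ (φ : S →ₗ[K] W) ∘ₗ s.symm.toLinearMap, by
        intro a v
        obtain ⟨a', rfl⟩ := θ.surjective a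
        show ρ (θ a') (u ((φ : S →ₗ[K] W) (s.symm v))) = u ((φ : S →ₗ[K] W) (s.symm (ρS (θ a') v)))
        rw [← Module.End.mul_apply, ← hcomm, Module.End.mul_apply, φ.2 a']
        congr 2
        apply s.injective
        rw [hsL, LinearEquiv.apply_symm_apply, LinearEquiv.apply_symm_apply, hL]⟩
      map_add' := fun φ ψ => by
        apply Subtype.ext
        refine LinearMap.ext fun v => ?_
        simp
      map_smul' := fun k φ => by
        apply Subtype.ext
        refine LinearMap.ext fun v => ?_
        simp }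
  haveI : Nontrivial U := by
    refine Submodule.nontrivial_iff_ne_bot.mpr ?_
    rw [Submodule.ne_bot_iff]
    refine ⟨S.subtype, fun a v => rfl, fun h => ?_⟩
    obtain ⟨v, hv⟩ := exists_ne (0 : S)
    exact hv (Subtype.ext (congrArg (fun f : S →ₗ[K] W => f v) h))
  obtain ⟨lam, hlam⟩ := Module.End.exists_eigenvalue Tφ
  obtain ⟨φ, hφmem, hφ0⟩ := hlam.exists_hasEigenvector
  have hφinj : Function.Injective (φ : S →ₗ[K] W) := by
    rw [← LinearMap.ker_eq_bot]
    refine (hirr _ fun a v hv => ?_).resolve_right fun h => hφ0 (Subtype.ext ?_)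
    · rw [LinearMap.mem_ker] at hv ⊢
      rw [← φ.2 a v, hv, map_zero]
    · exact LinearMap.ker_eq_top.mp h
  let u' : Module.End K S := lam • s.toLinearMap
  have hu' : ∀ v, u ((φ : S →ₗ[K] W) v) = (φ : S →ₗ[K] W) (u' v) := by
    intro v
    have h1 := congrArg (fun ψ : U => (ψ : S →ₗ[K] W) (s v))
      (Module.End.mem_eigenspace_iff.mp hφmem)
    simpa [Tφ, u'] using h1
  have hu'pow : ∀ k : ℕ, ∀ v, (u ^ k) ((φ : S →ₗ[K] W) v) = (φ : S →ₗ[K] W) ((u' ^ k) v) := by
    intro k
    induction k with
    | zero => intro v; rfl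
    | succ k ih =>
      intro v
      rw [pow_succ', pow_succ', Module.End.mul_apply, Module.End.mul_apply, ih, hu']
  have hu'r : u' ^ N = 1 := by
    refine LinearMap.ext fun v => hφinj ?_
    rw [← hu'pow, hu]; rfl
  have hu'fix : ∀ v, u' v = v → v = 0 := by
    intro v hv
    apply hφinj
    rw [map_zero]
    exact hfix _ (by rw [hu', hv])
  obtain ⟨hdim, hsq⟩ := eigen_dims u' hη hNK hu'r
  -- the orbit bound for the centraliser
  have hcen : ∀ f ∈ Subalgebra.centralizer K ({u'} : Set (Module.End K S)), L f = f := by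
    intro f hf
    have hlam0 : lam ≠ 0 := by
      intro h
      obtain ⟨v, hv⟩ := exists_ne (0 : S)
      apply hv
      have hz : u' = 0 := by simp [u', h]
      have := congrArg (fun g : Module.End K S => g v) hu'r
      simp only [hz, zero_pow hNpos.ne', LinearMap.zero_apply, Module.End.one_apply] at this
      exact this.symm
    refine LinearMap.ext fun v => ?_
    obtain ⟨w, rfl⟩ := s.surjective v
    rw [← hsL]
    have h1 := congrArg (fun g : Module.End K S => g w)
      ((Subalgebra.mem_centralizer_iff K).mp hf u' (Set.mem_singleton _))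
    simp only [Module.End.mul_apply, u', LinearMap.smul_apply, LinearEquiv.coe_coe, map_smul] at h1
    exact smul_right_injective S hlam0 h1
  let C : Submodule K (Module.End K S) :=
    Subalgebra.toSubmodule (Subalgebra.centralizer K ({u'} : Set (Module.End K S)))
  let Ω := MulAction.orbitRel.Quotient (zpowers σ) T
  haveI : Fintype Ω := Fintype.ofFinite Ω
  let Ψ : C →ₗ[K] (Ω → K) :=
    { toFun := fun f o => B.repr (f : Module.End K S) (Quotient.out o)
      map_add' := fun f g => by funext o; simp
      map_smul' := fun k f => by funext o; simp }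
  have hΨ : Function.Injective Ψ := by
    suffices H : ∀ f, Ψ f = 0 → f = 0 by
      intro f g hfg
      refine sub_eq_zero.mp (H (f - g) ?_)
      funext o
      have h := congrFun hfg o
      simp only [Ψ, LinearMap.coe_mk, AddHom.coe_mk] at h ⊢
      simp [h]
    intro f hf
    have hrel : ∀ t, B.repr (f : Module.End K S) t = 0 ↔ B.repr (f : Module.End K S) (σ t) = 0 := by
      intro t
      obtain ⟨k, hk, hk0⟩ : ∃ k : K, L (B t) = k • B (σ t) ∧ k ≠ 0 := by
        obtain ⟨k, hk⟩ := hdecomp (θ (out t))
        have hσt : QuotientGroup.mk (θ (out t)) = σ t := by rw [← hσmk, hout]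
        rw [hσt] at hk
        refine ⟨k, by rw [hB, hB, hL]; exact hk, fun h => ?_⟩
        rw [h, zero_smul] at hk
        exact (hunit _).ne_zero hk
      have h1 : ∀ g : Module.End K S, B.repr (L g) (σ t) = k * B.repr g t := by
        intro g
        have : B.coord (σ t) ∘ₗ L = k • B.coord t := by
          refine B.ext fun t' => ?_
          obtain ⟨k', hk'⟩ := hdecomp (θ (out t'))
          have hσt : QuotientGroup.mk (θ (out t')) = σ t' := by rw [← hσmk, hout]
          simp only [LinearMap.comp_apply, LinearMap.smul_apply, Basis.coord_apply]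
          by_cases h : t' = t
          · subst h; rw [hk]; simp
          · rw [hB t', hL, hk', hσt, ← hB, ← hB t']
            simp [Finsupp.single_eq_of_ne, h, (σ.injective.ne h)]
        exact congrArg (fun l : Module.End K S →ₗ[K] K => l g) this
      have h2 := h1 (f : Module.End K S)
      rw [hcen _ f.2] at h2
      rw [h2, mul_eq_zero]
      exact ⟨Or.inr, fun h => h.resolve_left hk0⟩
    apply Subtype.ext
    show (f : Module.End K S) = 0
    apply B.repr.injective
    rw [map_zero]
    ext t
    have hrep : B.repr (f : Module.End K S) (Quotient.out (Quotient.mk'' t : Ω)) = 0 :=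
      congrFun hf _
    obtain ⟨g, hg⟩ := MulAction.orbitRel_apply.mp
      (Quotient.exact' (Quotient.out_eq' (Quotient.mk'' t : Ω)))
    obtain ⟨j, hj⟩ := Subgroup.mem_zpowers_iff.mp g.2
    have key : ∀ j : ℤ, ∀ t, B.repr (f : Module.End K S) t = 0 ↔
        B.repr (f : Module.End K S) ((σ ^ j) t) = 0 := by
      intro j
      induction j using Int.induction_on with
      | zero => intro t; simp
      | succ n ih => intro t; rw [add_comm, zpow_add, zpow_one, Equiv.Perm.mul_apply, ih t, hrel]
      | pred n ih =>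
        intro t
        rw [sub_eq_neg_add, zpow_add, zpow_neg_one, Equiv.Perm.mul_apply, ih t,
          hrel (σ⁻¹ _), ← Equiv.Perm.mul_apply σ σ⁻¹, mul_inv_cancel, Equiv.Perm.one_apply]
    rw [Finsupp.zero_apply]
    rw [key j t, hj]
    rw [show (g : Equiv.Perm T) t = g • t from rfl, show g • t = _ from hg]
    exact hrep
  have hCle : Module.finrank K C ≤ Nat.card Ω := by
    refine (LinearMap.finrank_le_finrank_of_injective hΨ).trans ?_
    rw [Module.finrank_fintype_fun_eq_card, Nat.card_eq_fintype_card]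
  -- orbit count
  have hσit : ∀ k : ℕ, ∀ a : Q, (σ ^ k) (QuotientGroup.mk a) = QuotientGroup.mk ((θ : Q → Q)^[k] a) := by
    intro k
    induction k with
    | zero => intro a; rfl
    | succ k ih =>
      intro a
      rw [pow_succ', Equiv.Perm.mul_apply, ih, hσmk, Function.iterate_succ_apply']
  have hσN : σ ^ N = 1 := by
    ext t
    rw [← hout t, hσit, hθN]
    rfl
  have hσ0 : σ (1 : T) = 1 := by
    show σ (QuotientGroup.mk 1) = _
    rw [hσmk, map_one]
    rfl
  have hσfree : ∀ k : ℕ, 0 < k → k < N → ∀ t : T, (σ ^ k) t = t → t = 1 := by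
    intro k hk0 hkN t ht
    rw [← hout t, hσit] at ht
    rw [← hout t]
    exact (QuotientGroup.eq_one_iff _).mpr (hfree k hk0 hkN _ (QuotientGroup.eq.mp ht.symm))
  obtain ⟨a₀, ha₀⟩ := hnc
  have hne : ∃ t : T, t ≠ 1 := ⟨QuotientGroup.mk a₀, fun h => ha₀ ((QuotientGroup.eq_one_iff _).mp h)⟩
  have hcount := card_orbits_semiregular σ hNpos 1 hσN hσ0 hσfree hne
  rw [hN'] at hcount
  set d := Module.finrank K S with hd
  have hd2 : 2 ≤ d := by
    by_contra hlt
    have h1 : Nat.card T ≤ 1 := by
      rw [hN', sq]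
      exact Nat.mul_le_mul (by omega : _ ≤ 1) (by omega : _ ≤ 1)
    obtain ⟨t, ht⟩ := hne
    exact ht (Finite.card_le_one_iff_subsingleton.mp h1 |>.elim t 1)
  set a : Fin N → ℕ := fun i => Module.finrank K (Module.End.eigenspace u' (η ^ (i : ℕ))) with ha
  have ha0 : a ⟨0, hNpos⟩ = 0 := by
    have : Module.End.eigenspace u' (η ^ ((⟨0, hNpos⟩ : Fin N) : ℕ)) = ⊥ := by
      rw [Submodule.eq_bot_iff]
      intro v hv
      exact hu'fix v (by simpa using Module.End.mem_eigenspace_iff.mp hv)
    simp only [ha]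
    rw [this, finrank_bot]
  have hone : N - 1 = d ∧ ∀ i : Fin N, i ≠ ⟨0, hNpos⟩ → a i = 1 :=
    dims_eq hNpos a ha0 hd2 hdim (hsq.trans hCle) hcount
  refine ⟨by omega, by rw [hone.1]; exact hN', fun j hj0 hjN => ?_, ?_⟩
  · have h1 := hone.2 ⟨j, hjN⟩ (by simp [Fin.ext_iff]; omega)
    have h2 : Module.End.eigenspace u' (η ^ j) ≠ ⊥ := fun h => by
      simp only [ha] at h1
      rw [h, finrank_bot] at h1
      exact zero_ne_one h1
    obtain ⟨v, hv, hv0⟩ := (Submodule.ne_bot_iff _).mp h2
    refine ⟨(φ : S →ₗ[K] W) v, fun h => hv0 (hφinj (by rw [h, map_zero])), ?_⟩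
    rw [hu', Module.End.mem_eigenspace_iff.mp hv, map_smul]
  -- the operator on the intertwiners is a scalar
  have hlam0 : lam ≠ 0 := by
    intro h
    obtain ⟨v, hv⟩ := exists_ne (0 : S)
    apply hv
    have hz : u' = 0 := by simp [u', h]
    have := congrArg (fun g : Module.End K S => g v) hu'r
    simp only [hz, zero_pow hNpos.ne', LinearMap.zero_apply, Module.End.one_apply] at this
    exact this.symm
  have huniq : ∀ μ : K, ∀ ψ : U, ψ ≠ 0 → Tφ ψ = μ • ψ → μ = lam := by
    intro μ ψ hψ0 hψ
    have hψinj : Function.Injective (ψ : S →ₗ[K] W) := by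
      rw [← LinearMap.ker_eq_bot]
      refine (hirr _ fun b v hv => ?_).resolve_right fun h => hψ0 (Subtype.ext ?_)
      · rw [LinearMap.mem_ker] at hv ⊢
        rw [← ψ.2 b v, hv, map_zero]
      · exact LinearMap.ker_eq_top.mp h
    have hu'' : ∀ v, u ((ψ : S →ₗ[K] W) v) = (ψ : S →ₗ[K] W) ((μ * lam⁻¹) • u' v) := by
      intro v
      have h1 := congrArg (fun χ : U => (χ : S →ₗ[K] W) (s v)) hψ
      simp [Tφ, u'] at h1 ⊢
      rw [h1, smul_smul, mul_assoc, inv_mul_cancel₀ hlam0, mul_one]
    set κ := μ * lam⁻¹ with hκ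
    have hκN : κ ^ N = 1 := by
      have hk : ∀ (k : ℕ) v, (u ^ k) ((ψ : S →ₗ[K] W) v) = (ψ : S →ₗ[K] W) (κ ^ k • (u' ^ k) v) := by
        intro k
        induction k with
        | zero => intro v; simp
        | succ k ih =>
          intro v
          rw [pow_succ', Module.End.mul_apply, ih, hu'', map_smul u', smul_smul, ← pow_succ' κ,
            ← Module.End.mul_apply, ← pow_succ' u']
      obtain ⟨v, hv⟩ := exists_ne (0 : S)
      have h1 := hk N v
      rw [hu, hu'r, Module.End.one_apply, Module.End.one_apply] at h1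
      exact smul_left_injective K hv (((one_smul K v).trans (hψinj h1)).symm)
    by_contra hne'
    have hκ1 : κ ≠ 1 := fun h => hne' (by
      rw [hκ, ← div_eq_mul_inv, div_eq_one_iff_eq hlam0] at h; exact h)
    haveI : NeZero N := ⟨hNpos.ne'⟩
    obtain ⟨i, hiN, hi⟩ := hη.eq_pow_of_pow_eq_one (show κ⁻¹ ^ N = 1 by rw [inv_pow, hκN, inv_one])
    have hi0 : (⟨i, hiN⟩ : Fin N) ≠ ⟨0, hNpos⟩ := fun h => hκ1 (by
      rw [Fin.mk.injEq] at h
      rw [h, pow_zero] at hi
      exact inv_eq_one.mp hi.symm)
    have h1 := hone.2 _ hi0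
    have h2 : Module.End.eigenspace u' (η ^ i) ≠ ⊥ := fun h => by
      simp only [ha] at h1
      rw [h, finrank_bot] at h1
      exact zero_ne_one h1
    obtain ⟨v, hv, hv0⟩ := (Submodule.ne_bot_iff _).mp h2
    refine hv0 (hψinj ((hfix ((ψ : S →ₗ[K] W) v) ?_).trans (map_zero _).symm))
    rw [hu'', Module.End.mem_eigenspace_iff.mp hv, smul_smul, hi, mul_inv_cancel₀, one_smul]
    intro h
    rw [h, zero_pow hNpos.ne'] at hκN
    exact zero_ne_one hκN
  have hTpow : ∀ (k : ℕ) (ψ : U) v, (((Tφ ^ k) ψ : U) : S →ₗ[K] W) ((s.toLinearMap ^ k) v) =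
      (u ^ k) ((ψ : S →ₗ[K] W) v) := by
    intro k
    induction k with
    | zero => intro ψ v; rfl
    | succ k ih =>
      intro ψ v
      rw [pow_succ', pow_succ', pow_succ', Module.End.mul_apply, Module.End.mul_apply,
        Module.End.mul_apply, ← ih]
      simp [Tφ]
  let T' : Module.End K U := lam⁻¹ • Tφ
  have hT'N : T' ^ N = 1 := by
    refine LinearMap.ext fun ψ => Subtype.ext (LinearMap.ext fun v => ?_)
    have h1 : ((Tφ ^ N) ψ : S →ₗ[K] W) ((s.toLinearMap ^ N) v) = (ψ : S →ₗ[K] W) v := by
      rw [hTpow, hu]; rfl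
    have h2 : lam ^ N • (s.toLinearMap ^ N) v = v := by
      have := congrArg (fun g : Module.End K S => g v) hu'r
      simpa [u', smul_pow] using this
    rw [smul_pow, LinearMap.smul_apply, Submodule.coe_smul, LinearMap.smul_apply]
    conv_lhs => rw [← h2]
    rw [map_smul, h1, smul_smul, ← mul_pow, inv_mul_cancel₀ hlam0, one_pow, one_smul]
    rfl
  have hT1 : T' = 1 := by
    refine LinearMap.ext fun ψ => ?_
    have hsum' : ∑ i, Cfsg.Agent.H29.eigProj T' N η i ψ = ψ := by
      rw [← LinearMap.sum_apply, sum_eigProj _ hη hNK]; rfl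
    have hfx : ∀ i, T' (Cfsg.Agent.H29.eigProj T' N η i ψ) = Cfsg.Agent.H29.eigProj T' N η i ψ := by
      intro i
      set ω := Cfsg.Agent.H29.eigProj T' N η i ψ with hω
      have h1 : T' ω = η ^ (i : ℕ) • ω :=
        congrArg (fun g : Module.End K U => g ψ) (mul_eigProj T' hη hNK hT'N i)
      by_cases hω0 : ω = 0
      · rw [hω0, map_zero]
      have h2 : Tφ ω = (lam * η ^ (i : ℕ)) • ω := by
        have h3 : lam • (T' ω) = Tφ ω := by
          show lam • (lam⁻¹ • Tφ ω) = _
          rw [smul_smul, mul_inv_cancel₀ hlam0, one_smul]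
        rw [← h3, h1, smul_smul]
      have h4 : η ^ (i : ℕ) = 1 := by
        have := huniq _ ω hω0 h2
        exact mul_left_cancel₀ hlam0 (by rw [this, mul_one])
      rw [h1, h4, one_smul]
    rw [Module.End.one_apply]
    conv_lhs => rw [← hsum', map_sum]
    rw [Finset.sum_congr rfl fun i _ => hfx i, hsum']
  refine ⟨⨆ ψ : U, LinearMap.range (ψ : S →ₗ[K] W), ?_, fun b w hw => ?_, fun g hg w hw => ?_,
    fun g g' hg hg' hgg w hw => ?_⟩
  · obtain ⟨v, hv⟩ := exists_ne (0 : S)
    exact (Submodule.ne_bot_iff _).mpr ⟨_, Submodule.mem_iSup_of_mem φ (LinearMap.mem_range_self _ v),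
      fun h => hv (hφinj (by rw [h, map_zero]))⟩
  · induction hw using Submodule.iSup_induction' with
    | mem ψ w hw =>
      obtain ⟨v, rfl⟩ := hw
      exact Submodule.mem_iSup_of_mem ψ ⟨ρS b v, (ψ.2 b v).symm⟩
    | zero => rw [map_zero]; exact zero_mem _
    | add x y _ _ hx hy => rw [map_add]; exact add_mem hx hy
  · induction hw using Submodule.iSup_induction' with
    | mem ψ w hw =>
      obtain ⟨v, rfl⟩ := hw
      refine Submodule.mem_iSup_of_mem (⟨g ∘ₗ (ψ : S →ₗ[K] W), fun b v => ?_⟩ : U) ⟨v, rfl⟩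
      show ρ b (g ((ψ : S →ₗ[K] W) v)) = g ((ψ : S →ₗ[K] W) (ρS b v))
      rw [← ψ.2 b v, ← Module.End.mul_apply, ← hg, Module.End.mul_apply]
    | zero => rw [map_zero]; exact zero_mem _
    | add x y _ _ hx hy => rw [map_add]; exact add_mem hx hy
  · induction hw using Submodule.iSup_induction' with
    | mem ψ w hw =>
      obtain ⟨v₀, rfl⟩ := hw
      obtain ⟨v, rfl⟩ := s.surjective v₀
      have hmk : ∀ g : Module.End K W, (∀ b, g * ρ b = ρ b * g) → ∀ ψ : U,
          (g ∘ₗ (ψ : S →ₗ[K] W)) ∈ U := fun g hg ψ b v => by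
        show ρ b (g ((ψ : S →ₗ[K] W) v)) = g ((ψ : S →ₗ[K] W) (ρS b v))
        rw [← ψ.2 b v, ← Module.End.mul_apply, ← hg, Module.End.mul_apply]
      have hT : ∀ χ : U, Tφ χ = lam • χ := fun χ => by
        have h := congrArg (fun f : Module.End K U => lam • f χ) hT1
        simpa [T', smul_smul, mul_inv_cancel₀ hlam0] using h
      have h1 := congrArg (fun χ : U => (χ : S →ₗ[K] W) (s v)) (hT ⟨_, hmk g hg ψ⟩)
      have h2 := congrArg (fun χ : U => (χ : S →ₗ[K] W) (s v)) (hT ψ)
      simp [Tφ] at h1 h2
      have h3 := congrArg (fun f : Module.End K W => f ((ψ : S →ₗ[K] W) v)) hgg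
      simp only [Module.End.mul_apply] at h3
      rw [h3, h2, map_smul] at h1
      exact (smul_right_injective W hlam0 h1).symm
    | zero => rw [map_zero, map_zero]
    | add x y _ _ hx hy => rw [map_add, map_add, hx, hy]

end H1.Shult
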