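import Mathlib

/-!
Arithmetic for the Shult–Gross argument: the order of `2` modulo `p ^ (m + k)` when `p ^ m = 2 ^ e + 1`.
-/

set_option autoImplicit false

namespace H1.Shult

theorem two_pow_order {p m k e f : ℕ} (hp : p.Prime) (hp2 : p ≠ 2) (he : 1 ≤ e)
    (hN : p ^ m = 2 ^ e + 1) (hf : 1 ≤ f) (hdvd : p ^ m * p ^ k ∣ 2 ^ f - 1)
    (hle : f ≤ 2 * e * p ^ k) : f = 2 * e * p ^ k := by
  haveI := Fact.mk hp
  have h2e : 2 ≤ 2 ^ e := by
    calc 2 = 2 ^ 1 := rfl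
      _ ≤ 2 ^ e := Nat.pow_le_pow_right (by norm_num) he
  have hm : 1 ≤ m := by
    rcases Nat.eq_zero_or_pos m with h | h
    · rw [h, pow_zero] at hN; omega
    · exact h
  haveI : NeZero (p ^ m) := ⟨(pow_pos hp.pos m).ne'⟩
  have hcast : ((2 : ℕ) : ZMod (p ^ m)) ^ e = -1 := by
    rw [eq_neg_iff_add_eq_zero, ← Nat.cast_pow]
    have : ((2 ^ e + 1 : ℕ) : ZMod (p ^ m)) = 0 := by rw [← hN, ZMod.natCast_self]
    simpa using this
  set t := orderOf ((2 : ℕ) : ZMod (p ^ m)) with ht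
  have h2 : t ∣ 2 * e := by
    refine orderOf_dvd_of_pow_eq_one ?_
    rw [mul_comm, pow_mul, hcast, neg_one_sq]
  have hft : t ∣ f := by
    refine orderOf_dvd_of_pow_eq_one ?_
    have h3 : ((2 ^ f - 1 : ℕ) : ZMod (p ^ m)) = 0 :=
      (ZMod.natCast_eq_zero_iff _ _).mpr ((dvd_mul_right _ _).trans hdvd)
    rw [Nat.cast_sub (Nat.one_le_two_pow), Nat.cast_pow, Nat.cast_one, sub_eq_zero] at h3
    exact h3
  have ht2 : e < t := by
    by_contra hlt
    push Not at hlt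
    have htpos : 0 < t := Nat.pos_of_ne_zero fun h => by
      rw [h, zero_dvd_iff] at h2; omega
    have h3 : ((2 ^ t - 1 : ℕ) : ZMod (p ^ m)) = 0 := by
      rw [Nat.cast_sub (Nat.one_le_two_pow), Nat.cast_pow, Nat.cast_one, sub_eq_zero, ht,
        pow_orderOf_eq_one]
    have h4 := Nat.le_of_dvd (by
      have : 2 ≤ 2 ^ t := by
        calc 2 = 2 ^ 1 := rfl
          _ ≤ 2 ^ t := Nat.pow_le_pow_right (by norm_num) htpos
      omega) ((ZMod.natCast_eq_zero_iff _ _).mp h3)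
    have h5 : 2 ^ t ≤ 2 ^ e := Nat.pow_le_pow_right (by norm_num) hlt
    omega
  have hte : t = 2 * e := by
    obtain ⟨c, hc⟩ := h2
    rcases c with _ | _ | c
    · rw [mul_zero] at hc; omega
    · omega
    · rw [mul_add, mul_add] at hc; omega
  obtain ⟨j, hj⟩ : 2 * e ∣ f := hte ▸ hft
  have hj0 : j ≠ 0 := fun h => by rw [h, mul_zero] at hj; omega
  -- lifting the exponent
  set x := 2 ^ (2 * e) with hx
  have hx1 : x - 1 = p ^ m * (2 ^ e - 1) := by
    rw [hN, hx, mul_comm 2 e, pow_mul, ← Nat.sq_sub_sq, one_pow]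
  have hpx : p ∣ x - 1 := hx1 ▸ (dvd_pow_self p (by omega)).trans (dvd_mul_right _ _)
  have hpne : ¬ p ∣ x := fun h => by
    have := (Nat.prime_dvd_prime_iff_eq hp Nat.prime_two).mp (hp.dvd_of_dvd_pow h)
    exact hp2 this
  have hpe : ¬ p ∣ 2 ^ e - 1 := fun h => by
    have h6 : p ∣ 2 ^ e + 1 - (2 ^ e - 1) := Nat.dvd_sub (hN ▸ dvd_pow_self p (by omega)) h
    rw [show 2 ^ e + 1 - (2 ^ e - 1) = 2 by omega] at h6
    exact hp2 ((Nat.prime_dvd_prime_iff_eq hp Nat.prime_two).mp h6)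
  have hxgt : 1 < x := by
    rw [hx]; exact Nat.one_lt_two_pow (by omega)
  have hval := padicValNat.pow_sub_pow (p := p) (x := x) (y := 1) (hp.odd_of_ne_two hp2) hxgt hpx
    hpne (n := j) hj0
  rw [one_pow, hx1, padicValNat.mul (pow_pos hp.pos m).ne' (by omega), padicValNat.prime_pow,
    padicValNat.eq_zero_of_not_dvd hpe, add_zero] at hval
  have hfx : x ^ j - 1 = 2 ^ f - 1 := by rw [hx, ← pow_mul, ← hj]
  have hne : x ^ j - 1 ≠ 0 := by
    have : 1 < x ^ j := Nat.one_lt_pow hj0 hxgt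
    omega
  have hlow := (padicValNat_dvd_iff_le hne).mp (hfx ▸ (pow_add p m k).symm ▸ hdvd)
  rw [hval] at hlow
  have hk : p ^ k ≤ j := by
    refine (Nat.pow_le_pow_right hp.pos (show k ≤ padicValNat p j by omega)).trans ?_
    exact Nat.le_of_dvd (Nat.pos_of_ne_zero hj0) pow_padicValNat_dvd
  have := Nat.mul_le_mul_left (2 * e) hk
  omega

end H1.Shult
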