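import Cfsg.Agent.H29.EigenProjections
import Mathlib

/-!
Hall–Higman for a cyclic operator group of odd prime power order (helper1): an automorphism of order
`N = p ^ m` of a group of class two, semiregular modulo the centre, without fixed vectors in a faithful
module with scalar centre, forces `|Q / Z(Q)| = 2 ^ (2 e)` with `N = 2 ^ e + 1`.

The argument is the one of `H29.hallHigman_extraspecial` with the prime replaced by a prime power.
-/

set_option autoImplicit false
set_option linter.style.haveILetI false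

namespace H1.Shult

open Module Subgroup
open Cfsg.Agent.H29 (eigProj sum_eigProj mul_eigProj subalgebra_eq_top_of_irreducible sq_finrank_le_centralizer)

/-- Number of orbits of a semiregular permutation off one fixed point. -/
theorem card_orbits_semiregular {T : Type*} [Finite T] (σ : Equiv.Perm T) {N : ℕ} (hN : 0 < N)
    (t₀ : T) (hσN : σ ^ N = 1) (h0 : σ t₀ = t₀)
    (hfree : ∀ k : ℕ, 0 < k → k < N → ∀ t, (σ ^ k) t = t → t = t₀) (hT : ∃ t, t ≠ t₀) :
    Nat.card T + N = N * Nat.card (MulAction.orbitRel.Quotient (zpowers σ) T) + 1 := by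
  classical
  haveI := Fintype.ofFinite T
  obtain ⟨t₁, ht₁⟩ := hT
  have hord : orderOf σ = N := by
    have hdvd := orderOf_dvd_of_pow_eq_one hσN
    have hle := Nat.le_of_dvd hN hdvd
    by_contra hlt
    have hpos := orderOf_pos σ
    refine ht₁ (hfree (orderOf σ) hpos (lt_of_le_of_ne hle hlt) t₁ ?_)
    rw [pow_orderOf_eq_one]; rfl
  have hcard : Fintype.card (zpowers σ) = N := by
    rw [← Nat.card_eq_fintype_card, Nat.card_zpowers, hord]
  have hburn := MulAction.sum_card_fixedBy_eq_card_orbits_mul_card_group (zpowers σ) T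
  have h1 : Fintype.card (MulAction.fixedBy T (1 : zpowers σ)) = Nat.card T := by
    rw [← Nat.card_eq_fintype_card]
    exact Nat.card_congr (Equiv.subtypeUnivEquiv (fun t => one_smul _ t))
  have h2 : ∀ g : zpowers σ, g ≠ 1 → Fintype.card (MulAction.fixedBy T g) = 1 := by
    intro g hg
    rw [Fintype.card_eq_one_iff]
    obtain ⟨k, hk⟩ := mem_powers_iff_mem_zpowers.mpr g.2
    have hkm : σ ^ (k % N) = (g : Equiv.Perm T) := by rw [← hord, pow_mod_orderOf]; exact hk
    have hk0 : 0 < k % N := by
      rcases Nat.eq_zero_or_pos (k % N) with h | h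
      · rw [h, pow_zero] at hkm
        exact absurd (Subtype.ext hkm.symm) hg
      · exact h
    have hfix0 : (g : Equiv.Perm T) t₀ = t₀ := by
      rw [← hkm]
      exact Equiv.Perm.pow_apply_eq_self_of_apply_eq_self h0 _
    exact ⟨⟨t₀, hfix0⟩, fun t => Subtype.ext
      (hfree _ hk0 (Nat.mod_lt _ hN) _ (by rw [hkm]; exact t.2))⟩
  rw [← Finset.add_sum_erase _ _ (Finset.mem_univ (1 : zpowers σ)), h1,
    Finset.sum_congr rfl (fun g hg => h2 g (Finset.ne_of_mem_erase hg)), Finset.sum_const,
    Finset.card_erase_of_mem (Finset.mem_univ _), Finset.card_univ, hcard, smul_eq_mul,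
    mul_one] at hburn
  have hΩ : Nat.card (MulAction.orbitRel.Quotient (zpowers σ) T) =
      Fintype.card (Quotient (MulAction.orbitRel (zpowers σ) T)) := Nat.card_eq_fintype_card
  rw [hΩ]
  rw [mul_comm N]
  omega

/-- The arithmetic at the end of the argument. -/
theorem cyclicHH_arith {p m N q d o e : ℕ} (hp : p.Prime) (hp2 : p ≠ 2) (hN : N = p ^ m) (hq : q.Prime)
    (hd : d = q ^ e) (hd2 : 2 ≤ d) (ho : d ^ 2 + N = N * o + 1) (hle : d ^ 2 ≤ (N - 1) * o) :
    q = 2 ∧ N = 2 ^ e + 1 := by
  have hdN : d + 1 ≤ N := by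
    by_contra h
    have hN0 : 1 ≤ N := hN ▸ Nat.one_le_pow _ _ hp.pos
    obtain ⟨N', rfl⟩ : ∃ N', N = N' + 1 := ⟨N - 1, by omega⟩
    simp only [Nat.add_sub_cancel] at hle
    have h' : (N' + 1) * (N' + 1) ≤ d * d := Nat.mul_le_mul (by omega) (by omega)
    nlinarith
  have hdvd : N ∣ (d - 1) * (d + 1) := by
    obtain ⟨c, rfl⟩ : ∃ c, d = c + 1 := ⟨d - 1, by omega⟩
    have h1 : 1 ≤ o := by
      rcases Nat.eq_zero_or_pos o with h | h
      · subst h; nlinarith
      · exact h
    obtain ⟨o', rfl⟩ : ∃ o', o = o' + 1 := ⟨o - 1, by omega⟩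
    refine ⟨o', ?_⟩
    simp only [Nat.add_sub_cancel]
    nlinarith
  have hone : N ∣ d + 1 := by
    rw [hN] at hdvd ⊢
    refine Nat.Coprime.dvd_of_dvd_mul_left (Nat.Coprime.pow_left m ((Nat.Prime.coprime_iff_not_dvd hp).mpr ?_)) hdvd
    intro h1
    by_cases h2 : p ∣ d + 1
    · have h3 : p ∣ d + 1 - (d - 1) := Nat.dvd_sub h2 h1
      rw [show d + 1 - (d - 1) = 2 by omega] at h3
      exact hp2 ((Nat.prime_dvd_prime_iff_eq hp Nat.prime_two).mp h3)
    · have h4 : p ^ m ∣ d - 1 :=
        Nat.Coprime.dvd_of_dvd_mul_right (Nat.Coprime.pow_left m ((Nat.Prime.coprime_iff_not_dvd hp).mpr h2)) hdvd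
      have := Nat.le_of_dvd (by omega) h4
      omega
  have hNd : N = d + 1 := by have := Nat.le_of_dvd (by omega) hone; omega
  have hodd : Odd N := hN ▸ (hp.odd_of_ne_two hp2).pow
  have hdeven : Even d := by
    rcases hodd with ⟨k, hk⟩
    exact ⟨k, by omega⟩
  have hq2 : q = 2 := by
    rw [hd, Nat.even_pow] at hdeven
    exact (hq.even_iff).mp hdeven.1
  exact ⟨hq2, by rw [hNd, hd, hq2]⟩

/-- Hall–Higman for a cyclic group of odd prime power order. -/
theorem cyclicHH {Q : Type*} [Group Q] [Finite Q] {q p m N : ℕ} (hq : q.Prime) (hQ : IsPGroup q Q)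
    (hp : p.Prime) (hp2 : p ≠ 2) (hN : N = p ^ m)
    (hcls : ∀ a b : Q, a * b * a⁻¹ * b⁻¹ ∈ center Q) (hnc : ∃ a : Q, a ∉ center Q)
    (θ : Q ≃* Q) (hθN : ∀ a, (θ : Q → Q)^[N] a = a) (hθZ : ∀ c ∈ center Q, θ c = c)
    (hfree : ∀ k : ℕ, 0 < k → k < N → ∀ a, a⁻¹ * (θ : Q → Q)^[k] a ∈ center Q → a ∈ center Q)
    {K : Type*} [Field K] [IsAlgClosed K] (hNK : (N : K) ≠ 0)
    {W : Type*} [AddCommGroup W] [Module K W] [FiniteDimensional K W] [Nontrivial W]
    (ρ : Q →* Module.End K W) (hρ : Function.Injective ρ)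
    (hscalW : ∀ c ∈ center Q, ∃ k : K, ρ c = k • (1 : Module.End K W))
    (u : Module.End K W) (hu : u ^ N = 1) (hfix : ∀ v, u v = v → v = 0)
    (hcomm : ∀ a, u * ρ a = ρ (θ a) * u) :
    q = 2 ∧ ∃ e : ℕ, 1 ≤ e ∧ N = 2 ^ e + 1 ∧ Nat.card (Q ⧸ center Q) = 2 ^ (2 * e) := by
  classical
  haveI : Fact q.Prime := ⟨hq⟩
  have hNpos : 0 < N := hN ▸ pow_pos hp.pos m
  haveI : NeZero (N : K) := ⟨hNK⟩
  obtain ⟨η, hη⟩ := HasEnoughRootsOfUnity.exists_primitiveRoot K N
  -- a minimal invariant subspace 
  let W0 : Submodule K W := ⊤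
  have hW0 : W0 ≠ ⊥ := top_ne_bot
  have hW0inv : ∀ a : Q, ∀ v ∈ W0, ρ a v ∈ W0 := fun _ _ _ => Submodule.mem_top
  obtain ⟨S, ⟨hS0, hSinv, hSle⟩, hSmin⟩ := wellFounded_lt.has_min
    {U : Submodule K W | U ≠ ⊥ ∧ (∀ a : Q, ∀ v ∈ U, ρ a v ∈ U) ∧ U ≤ W0}
    ⟨W0, hW0, hW0inv, le_rfl⟩
  haveI : Nontrivial S := Submodule.nontrivial_iff_ne_bot.mpr hS0
  let ρS : Q →* Module.End K S :=
    { toFun := fun a => (ρ a).restrict (hSinv a)
      map_one' := by
        refine LinearMap.ext fun v => Subtype.ext ?_
        show ρ 1 (v : W) = _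
        rw [map_one]; rfl
      map_mul' := fun a b => by
        refine LinearMap.ext fun v => Subtype.ext ?_
        show ρ (a * b) (v : W) = _
        rw [map_mul]; rfl }
  have hρScoe : ∀ a (v : S), (ρS a v : W) = ρ a (v : W) := fun _ _ => rfl
  have hirr : ∀ U : Submodule K S, (∀ a, ∀ v ∈ U, ρS a v ∈ U) → U = ⊥ ∨ U = ⊤ := by
    intro U hU
    by_cases h0 : U = ⊥
    · exact Or.inl h0
    right
    by_contra htop
    have hlt : U.map S.subtype < S := by
      refine lt_of_le_of_ne (Submodule.map_subtype_le S U) fun h => htop ?_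
      apply Submodule.map_injective_of_injective (f := S.subtype) Subtype.val_injective
      rw [h, Submodule.map_subtype_top]
    refine hSmin (U.map S.subtype) ⟨?_, ?_, le_trans hlt.le hSle⟩ hlt
    · intro h
      exact h0 (Submodule.map_injective_of_injective (f := S.subtype) Subtype.val_injective
        (by rw [h, Submodule.map_bot]))
    · intro a v hv
      obtain ⟨w, hw, rfl⟩ := Submodule.mem_map.mp hv
      exact Submodule.mem_map.mpr ⟨ρS a w, hU a w hw, rfl⟩
  -- the centre acts by scalars
  have hscal : ∀ c ∈ center Q, ∃ k : K, ρS c = k • (1 : Module.End K S) := by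
    intro c hc
    obtain ⟨k, hk⟩ := hscalW c hc
    refine ⟨k, LinearMap.ext fun v => Subtype.ext ?_⟩
    show ρ c (v : W) = k • (v : W)
    rw [hk]; rfl
  have hcenter_inj : ∀ c ∈ center Q, ρS c = 1 → c = 1 := by
    intro c hc h
    obtain ⟨k, hk⟩ := hscalW c hc
    obtain ⟨v, hv⟩ := exists_ne (0 : S)
    have h1 : k • (v : W) = (v : W) := by
      have := congrArg (fun f : Module.End K S => ((f v : S) : W)) h
      simpa [hρScoe, hk] using this
    have hk1 : k = 1 := by
      by_contra hne
      exact hv (Subtype.ext (smul_right_injective W (sub_ne_zero.mpr hne)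
        (show (k - 1) • (v : W) = (k - 1) • (0 : W) by rw [sub_smul, h1, one_smul, sub_self, smul_zero])))
    apply hρ
    rw [hk, hk1, one_smul, map_one]
  have hunit : ∀ a, IsUnit (ρS a) := fun a => by
    refine IsUnit.map ρS (Group.isUnit a)
  have hcommcenter := hcls
  -- the coset representatives
  let T := Q ⧸ center Q
  haveI : Fintype T := Fintype.ofFinite T
  let out : T → Q := fun t => Quotient.out t
  have hout : ∀ t : T, QuotientGroup.mk (out t) = t := fun t => Quotient.out_eq t
  let b : T → Module.End K S := fun t => ρS (out t)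
  have hdecomp : ∀ a : Q, ∃ k : K, ρS a = k • b (QuotientGroup.mk a) := by
    intro a
    obtain ⟨k, hk⟩ := hscal _ (QuotientGroup.eq.mp (hout (QuotientGroup.mk a)))
    refine ⟨k, ?_⟩
    have : a = out (QuotientGroup.mk a) * ((out (QuotientGroup.mk a))⁻¹ * a) := by group
    conv_lhs => rw [this]
    rw [map_mul, hk, mul_smul_comm, mul_one]
  -- linear independence
  have hindep : ∀ s : Finset T, ∀ c : T → K, ∑ t ∈ s, c t • b t = 0 → ∀ t ∈ s, c t = 0 := by
    intro s
    induction s using Finset.induction with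
    | empty => intro c _ t ht; exact absurd ht (Finset.notMem_empty t)
    | @insert t₁ s ht₁ ih =>
      intro c hc
      choose χ hχ using fun (y : Q) (t : T) => hscal _ (hcommcenter y (out t))
      have hconj : ∀ y t, ρS y * b t = χ y t • (b t * ρS y) := by
        intro y t
        show ρS y * ρS (out t) = _
        rw [← map_mul, show y * out t = (y * out t * y⁻¹ * (out t)⁻¹) * (out t * y) by group,
          map_mul, hχ, smul_mul_assoc, one_mul, map_mul]
      have hs : ∀ t ∈ s, c t = 0 := by
        intro t ht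
        by_contra hct
        have hall : ∀ y, χ y t = χ y t₁ := by
          intro y
          have h1 : ∑ x ∈ insert t₁ s, (χ y x * c x) • b x = 0 := by
            have h2 : (∑ x ∈ insert t₁ s, (χ y x * c x) • b x) * ρS y =
                ρS y * ∑ x ∈ insert t₁ s, c x • b x := by
              rw [Finset.sum_mul, Finset.mul_sum]
              refine Finset.sum_congr rfl fun x _ => ?_
              rw [mul_smul_comm, hconj, smul_smul, smul_mul_assoc, mul_comm (χ y x)]
            rw [hc, mul_zero] at h2
            exact (hunit y).mul_left_eq_zero.mp h2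
          have h3 : ∑ x ∈ insert t₁ s, ((χ y x - χ y t₁) * c x) • b x = 0 := by
            have e0 : ∀ x, ((χ y x - χ y t₁) * c x) • b x =
                (χ y x * c x) • b x - χ y t₁ • (c x • b x) := fun x => by
              rw [smul_smul, sub_mul]
              exact sub_smul (χ y x * c x) (χ y t₁ * c x) (b x)
            rw [Finset.sum_congr rfl (fun x _ => e0 x), Finset.sum_sub_distrib, h1,
              ← Finset.smul_sum, hc, smul_zero, sub_zero]
          rw [Finset.sum_insert ht₁, sub_self, zero_mul, zero_smul, zero_add] at h3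
          rcases mul_eq_zero.mp (ih _ h3 t ht) with h | h
          · exact sub_eq_zero.mp h
          · exact absurd h hct
        apply ht₁
        have heq : ∀ y, y * out t * y⁻¹ * (out t)⁻¹ = y * out t₁ * y⁻¹ * (out t₁)⁻¹ := by
          intro y
          have h4 : ρS (y * out t * y⁻¹ * (out t)⁻¹) = ρS (y * out t₁ * y⁻¹ * (out t₁)⁻¹) := by
            rw [hχ, hχ, hall]
          have := hcenter_inj _ (mul_mem (inv_mem (hcommcenter y (out t₁))) (hcommcenter y (out t)))
            (by rw [map_mul, h4, ← map_mul, inv_mul_cancel, map_one])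
          rw [inv_mul_eq_one] at this
          exact this.symm
        have hmem : (out t)⁻¹ * out t₁ ∈ center Q := by
          rw [Subgroup.mem_center_iff]
          intro y
          set w := y * out t * y⁻¹ * (out t)⁻¹ with hw
          have e1 : y * out t = w * out t * y := by rw [hw]; group
          have e2 : y * out t₁ = w * out t₁ * y := by rw [hw, heq y]; group
          calc y * ((out t)⁻¹ * out t₁)
              = (out t)⁻¹ * w⁻¹ * (y * out t₁) := by
                have e3 : y * (out t)⁻¹ = (out t)⁻¹ * w⁻¹ * y := by rw [hw]; group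
                rw [← mul_assoc, e3, mul_assoc]
            _ = (out t)⁻¹ * out t₁ * y := by rw [e2]; group
        have : t = t₁ := by
          rw [← hout t, ← hout t₁]; exact QuotientGroup.eq.mpr hmem
        exact this ▸ ht
      intro t ht
      rcases Finset.mem_insert.mp ht with rfl | ht'
      · rw [Finset.sum_insert ht₁, Finset.sum_eq_zero (fun x hx => by rw [hs x hx, zero_smul]),
          add_zero] at hc
        exact (smul_eq_zero.mp hc).resolve_right (hunit (out t)).ne_zero
      · exact hs t ht'
  have hli : LinearIndependent K b := by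
    rw [Fintype.linearIndependent_iff]
    exact fun g hg t => hindep Finset.univ g hg t (Finset.mem_univ t)
  -- spanning
  have hsmall : ∀ a, ρS a ∈ Submodule.span K (Set.range b) := fun a => by
    obtain ⟨k, hk⟩ := hdecomp a
    rw [hk]; exact Submodule.smul_mem _ _ (Submodule.subset_span ⟨_, rfl⟩)
  have hspan : ⊤ ≤ Submodule.span K (Set.range b) := by
    have hA : Algebra.adjoin K (Set.range ρS) = ⊤ := by
      apply subalgebra_eq_top_of_irreducible
      intro U hU
      exact hirr U fun a v hv => hU _ (Algebra.subset_adjoin ⟨a, rfl⟩) v hv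
    have hB : Subalgebra.toSubmodule (Algebra.adjoin K (Set.range ρS)) =
        Submodule.span K (Set.range ρS) := by
      rw [Algebra.adjoin_eq_span, ← MonoidHom.coe_mrange, Submonoid.closure_eq]
    rw [hA, Algebra.top_toSubmodule] at hB
    rw [hB, Submodule.span_le]
    rintro _ ⟨a, rfl⟩
    exact hsmall a
  let B : Basis T K (Module.End K S) := Basis.mk hli hspan
  have hB : ∀ t, B t = b t := fun t => Basis.mk_apply hli hspan t
  have hN' : Nat.card T = Module.finrank K S ^ 2 := by
    rw [Nat.card_eq_fintype_card, ← Module.finrank_eq_card_basis B, Module.finrank_linearMap, sq]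
  -- the induced permutation
  have hθcenter : (center Q).map θ.toMonoidHom = center Q := by
    ext c
    constructor
    · rintro ⟨d, hd, rfl⟩
      show θ d ∈ _
      rw [hθZ d hd]; exact hd
    · intro hc; exact ⟨c, hc, hθZ c hc⟩
  let σ : Equiv.Perm T := (QuotientGroup.congr (center Q) (center Q) θ hθcenter).toEquiv
  have hσmk : ∀ a : Q, σ (QuotientGroup.mk a) = QuotientGroup.mk (θ a) := fun a => rfl
  -- the algebra automorphism
  let L : Module.End K S →ₗ[K] Module.End K S := B.constr K fun t => ρS (θ (out t))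
  have hL : ∀ a, L (ρS a) = ρS (θ a) := by
    intro a
    obtain ⟨k, hk⟩ := hscal _ (QuotientGroup.eq.mp (hout (QuotientGroup.mk a)))
    have ha : a = out (QuotientGroup.mk a) * ((out (QuotientGroup.mk a))⁻¹ * a) := by group
    have hc := hθZ _ (QuotientGroup.eq.mp (hout (QuotientGroup.mk a)))
    conv_rhs => rw [ha, map_mul θ, hc, map_mul ρS, hk]
    conv_lhs => rw [ha, map_mul, hk]
    rw [mul_smul_comm, mul_smul_comm, mul_one, mul_one, map_smul]
    congr 1
    show L (b (QuotientGroup.mk a)) = _
    rw [← hB, Basis.constr_basis]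
  have hLmul : ∀ f g, L (f * g) = L f * L g := by
    intro f g
    have hf : f ∈ Submodule.span K (Set.range b) := hspan trivial
    have hg : g ∈ Submodule.span K (Set.range b) := hspan trivial
    induction hf using Submodule.span_induction with
    | zero => simp
    | add x y _ _ hx hy => rw [add_mul, map_add, map_add, add_mul, hx, hy]
    | smul k x _ hx => rw [smul_mul_assoc, map_smul, map_smul, smul_mul_assoc, hx]
    | mem x hx =>
      obtain ⟨t, rfl⟩ := hx
      induction hg using Submodule.span_induction with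
      | zero => simp
      | add x y _ _ hx hy => rw [mul_add, map_add, map_add, mul_add, hx, hy]
      | smul k x _ hx => rw [mul_smul_comm, map_smul, map_smul, mul_smul_comm, hx]
      | mem x hx =>
        obtain ⟨t', rfl⟩ := hx
        show L (ρS (out t) * ρS (out t')) = L (ρS _) * L (ρS _)
        rw [← map_mul ρS, hL, hL, hL, map_mul θ, map_mul ρS]
  have hL1 : L 1 = 1 := by
    rw [← map_one ρS, hL, map_one θ]
  let Λ : Module.End K S →ₐ[K] Module.End K S := AlgHom.ofLinearMap L hL1 hLmul
  have hΛsurj : Function.Surjective L := by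
    rw [← LinearMap.range_eq_top, eq_top_iff]
    refine hspan.trans (Submodule.span_le.mpr ?_)
    rintro _ ⟨t, rfl⟩
    refine ⟨ρS (θ.symm (out t)), ?_⟩
    rw [hL, MulEquiv.apply_symm_apply]
  have hΛbij : Function.Bijective Λ :=
    ⟨(LinearMap.injective_iff_surjective (f := L)).mpr hΛsurj, hΛsurj⟩
  obtain ⟨s, hs⟩ := LinearEquiv.conjAlgEquiv_surjective K S S (AlgEquiv.ofBijective Λ hΛbij)
  have hsL : ∀ f v, s (f v) = L f (s v) := by
    intro f v
    have h1 := congrArg (fun e : Module.End K S ≃ₐ[K] Module.End K S => e f (s v)) hs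
    simp only [LinearEquiv.conjAlgEquiv_apply, LinearMap.coe_comp, LinearEquiv.coe_coe,
      Function.comp_apply, LinearEquiv.symm_apply_apply] at h1
    exact h1
  -- correct the scalar
  let U : Submodule K (S →ₗ[K] W) :=
    { carrier := {φ | ∀ a v, ρ a (φ v) = φ (ρS a v)}
      add_mem' := fun {φ ψ} hφ hψ a v => by
        simp only [LinearMap.add_apply, map_add, hφ a v, hψ a v]
      zero_mem' := fun a v => by simp
      smul_mem' := fun k φ hφ a v => by
        simp only [LinearMap.smul_apply, map_smul, hφ a v] }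
  let Tφ : U →ₗ[K] U :=
    { toFun := fun φ => ⟨u ∘ₗ (φ : S →ₗ[K] W) ∘ₗ s.symm.toLinearMap, by
        intro a v
        obtain ⟨a', rfl⟩ := θ.surjective a
        show ρ (θ a') (u ((φ : S →ₗ[K] W) (s.symm v))) = u ((φ : S →ₗ[K] W) (s.symm (ρS (θ a') v)))
        rw [← Module.End.mul_apply, ← hcomm, Module.End.mul_apply, φ.2 a']
        congr 2
        apply s.injective
        rw [hsL, LinearEquiv.apply_symm_apply, LinearEquiv.apply_symm_apply, hL]⟩
      map_add' := fun φ ψ => by
        apply Subtype.ext
        refine LinearMap.ext fun v => ?_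
        simp
      map_smul' := fun k φ => by
        apply Subtype.ext
        refine LinearMap.ext fun v => ?_
        simp }
  haveI : Nontrivial U := by
    refine Submodule.nontrivial_iff_ne_bot.mpr ?_
    rw [Submodule.ne_bot_iff]
    refine ⟨S.subtype, fun a v => rfl, fun h => ?_⟩
    obtain ⟨v, hv⟩ := exists_ne (0 : S)
    exact hv (Subtype.ext (congrArg (fun f : S →ₗ[K] W => f v) h))
  obtain ⟨lam, hlam⟩ := Module.End.exists_eigenvalue Tφ
  obtain ⟨φ, hφmem, hφ0⟩ := hlam.exists_hasEigenvector
  have hφinj : Function.Injective (φ : S →ₗ[K] W) := by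
    rw [← LinearMap.ker_eq_bot]
    refine (hirr _ fun a v hv => ?_).resolve_right fun h => hφ0 (Subtype.ext ?_)
    · rw [LinearMap.mem_ker] at hv ⊢
      rw [← φ.2 a v, hv, map_zero]
    · exact LinearMap.ker_eq_top.mp h
  let u' : Module.End K S := lam • s.toLinearMap
  have hu' : ∀ v, u ((φ : S →ₗ[K] W) v) = (φ : S →ₗ[K] W) (u' v) := by
    intro v
    have h1 := congrArg (fun ψ : U => (ψ : S →ₗ[K] W) (s v))
      (Module.End.mem_eigenspace_iff.mp hφmem)
    simpa [Tφ, u'] using h1
  have hu'pow : ∀ k : ℕ, ∀ v, (u ^ k) ((φ : S →ₗ[K] W) v) = (φ : S →ₗ[K] W) ((u' ^ k) v) := by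
    intro k
    induction k with
    | zero => intro v; rfl
    | succ k ih =>
      intro v
      rw [pow_succ', pow_succ', Module.End.mul_apply, Module.End.mul_apply, ih, hu']
  have hu'r : u' ^ N = 1 := by
    refine LinearMap.ext fun v => hφinj ?_
    rw [← hu'pow, hu]; rfl
  have hu'fix : ∀ v, u' v = v → v = 0 := by
    intro v hv
    apply hφinj
    rw [map_zero]
    exact hfix _ (by rw [hu', hv])
  have hle := sq_finrank_le_centralizer u' hη hNK hu'r hu'fix
  -- the orbit bound for the centraliser
  have hcen : ∀ f ∈ Subalgebra.centralizer K ({u'} : Set (Module.End K S)), L f = f := by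
    intro f hf
    have hlam0 : lam ≠ 0 := by
      intro h
      obtain ⟨v, hv⟩ := exists_ne (0 : S)
      apply hv
      have hz : u' = 0 := by simp [u', h]
      have := congrArg (fun g : Module.End K S => g v) hu'r
      simp only [hz, zero_pow hNpos.ne', LinearMap.zero_apply, Module.End.one_apply] at this
      exact this.symm
    refine LinearMap.ext fun v => ?_
    obtain ⟨w, rfl⟩ := s.surjective v
    rw [← hsL]
    have h1 := congrArg (fun g : Module.End K S => g w)
      ((Subalgebra.mem_centralizer_iff K).mp hf u' (Set.mem_singleton _))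
    simp only [Module.End.mul_apply, u', LinearMap.smul_apply, LinearEquiv.coe_coe, map_smul] at h1
    exact smul_right_injective S hlam0 h1
  let C : Submodule K (Module.End K S) :=
    Subalgebra.toSubmodule (Subalgebra.centralizer K ({u'} : Set (Module.End K S)))
  let Ω := MulAction.orbitRel.Quotient (zpowers σ) T
  haveI : Fintype Ω := Fintype.ofFinite Ω
  let Ψ : C →ₗ[K] (Ω → K) :=
    { toFun := fun f o => B.repr (f : Module.End K S) (Quotient.out o)
      map_add' := fun f g => by funext o; simp
      map_smul' := fun k f => by funext o; simp }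
  have hΨ : Function.Injective Ψ := by
    suffices H : ∀ f, Ψ f = 0 → f = 0 by
      intro f g hfg
      refine sub_eq_zero.mp (H (f - g) ?_)
      funext o
      have h := congrFun hfg o
      simp only [Ψ, LinearMap.coe_mk, AddHom.coe_mk] at h ⊢
      simp [h]
    intro f hf
    have hrel : ∀ t, B.repr (f : Module.End K S) t = 0 ↔ B.repr (f : Module.End K S) (σ t) = 0 := by
      intro t
      obtain ⟨k, hk, hk0⟩ : ∃ k : K, L (B t) = k • B (σ t) ∧ k ≠ 0 := by
        obtain ⟨k, hk⟩ := hdecomp (θ (out t))
        have hσt : QuotientGroup.mk (θ (out t)) = σ t := by rw [← hσmk, hout]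
        rw [hσt] at hk
        refine ⟨k, by rw [hB, hB, hL]; exact hk, fun h => ?_⟩
        rw [h, zero_smul] at hk
        exact (hunit _).ne_zero hk
      have h1 : ∀ g : Module.End K S, B.repr (L g) (σ t) = k * B.repr g t := by
        intro g
        have : B.coord (σ t) ∘ₗ L = k • B.coord t := by
          refine B.ext fun t' => ?_
          obtain ⟨k', hk'⟩ := hdecomp (θ (out t'))
          have hσt : QuotientGroup.mk (θ (out t')) = σ t' := by rw [← hσmk, hout]
          simp only [LinearMap.comp_apply, LinearMap.smul_apply, Basis.coord_apply]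
          by_cases h : t' = t
          · subst h; rw [hk]; simp
          · rw [hB t', hL, hk', hσt, ← hB, ← hB t']
            simp [Finsupp.single_eq_of_ne, h, (σ.injective.ne h)]
        exact congrArg (fun l : Module.End K S →ₗ[K] K => l g) this
      have h2 := h1 (f : Module.End K S)
      rw [hcen _ f.2] at h2
      rw [h2, mul_eq_zero]
      exact ⟨Or.inr, fun h => h.resolve_left hk0⟩
    apply Subtype.ext
    show (f : Module.End K S) = 0
    apply B.repr.injective
    rw [map_zero]
    ext t
    have hrep : B.repr (f : Module.End K S) (Quotient.out (Quotient.mk'' t : Ω)) = 0 :=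
      congrFun hf _
    obtain ⟨g, hg⟩ := MulAction.orbitRel_apply.mp
      (Quotient.exact' (Quotient.out_eq' (Quotient.mk'' t : Ω)))
    obtain ⟨j, hj⟩ := Subgroup.mem_zpowers_iff.mp g.2
    have key : ∀ j : ℤ, ∀ t, B.repr (f : Module.End K S) t = 0 ↔
        B.repr (f : Module.End K S) ((σ ^ j) t) = 0 := by
      intro j
      induction j using Int.induction_on with
      | zero => intro t; simp
      | succ n ih => intro t; rw [add_comm, zpow_add, zpow_one, Equiv.Perm.mul_apply, ih t, hrel]
      | pred n ih =>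
        intro t
        rw [sub_eq_neg_add, zpow_add, zpow_neg_one, Equiv.Perm.mul_apply, ih t,
          hrel (σ⁻¹ _), ← Equiv.Perm.mul_apply σ σ⁻¹, mul_inv_cancel, Equiv.Perm.one_apply]
    rw [Finsupp.zero_apply]
    rw [key j t, hj]
    rw [show (g : Equiv.Perm T) t = g • t from rfl, show g • t = _ from hg]
    exact hrep
  have hCle : Module.finrank K C ≤ Nat.card Ω := by
    refine (LinearMap.finrank_le_finrank_of_injective hΨ).trans ?_
    rw [Module.finrank_fintype_fun_eq_card, Nat.card_eq_fintype_card]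
  -- orbit count
  have hσit : ∀ k : ℕ, ∀ a : Q, (σ ^ k) (QuotientGroup.mk a) = QuotientGroup.mk ((θ : Q → Q)^[k] a) := by
    intro k
    induction k with
    | zero => intro a; rfl
    | succ k ih =>
      intro a
      rw [pow_succ', Equiv.Perm.mul_apply, ih, hσmk, Function.iterate_succ_apply']
  have hσN : σ ^ N = 1 := by
    ext t
    rw [← hout t, hσit, hθN]
    rfl
  have hσ0 : σ (1 : T) = 1 := by
    show σ (QuotientGroup.mk 1) = _
    rw [hσmk, map_one]
    rfl
  have hσfree : ∀ k : ℕ, 0 < k → k < N → ∀ t : T, (σ ^ k) t = t → t = 1 := by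
    intro k hk0 hkN t ht
    rw [← hout t, hσit] at ht
    rw [← hout t]
    exact (QuotientGroup.eq_one_iff _).mpr (hfree k hk0 hkN _ (QuotientGroup.eq.mp ht.symm))
  obtain ⟨a₀, ha₀⟩ := hnc
  have hne : ∃ t : T, t ≠ 1 := ⟨QuotientGroup.mk a₀, fun h => ha₀ ((QuotientGroup.eq_one_iff _).mp h)⟩
  have hcount := card_orbits_semiregular σ hNpos 1 hσN hσ0 hσfree hne
  rw [hN'] at hcount
  obtain ⟨f, hf⟩ := IsPGroup.iff_card.mp (hQ.to_quotient (center Q))
  have hd2 : 2 ≤ Module.finrank K S := by
    by_contra hlt
    have h1 : Nat.card T ≤ 1 := by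
      rw [hN', sq]
      exact Nat.mul_le_mul (by omega : _ ≤ 1) (by omega : _ ≤ 1)
    obtain ⟨t, ht⟩ := hne
    exact ht (Finite.card_le_one_iff_subsingleton.mp h1 |>.elim t 1)
  obtain ⟨e, -, he⟩ := (Nat.dvd_prime_pow hq).mp
    (show Module.finrank K S ∣ q ^ f by
      rw [← hf, show Nat.card (Q ⧸ center Q) = Module.finrank K S ^ 2 from hN', sq]
      exact dvd_mul_right _ _)
  have hfinal : Module.finrank K S ^ 2 ≤ (N - 1) * Nat.card Ω :=
    hle.trans (Nat.mul_le_mul_left _ hCle)
  obtain ⟨h2, h3⟩ := cyclicHH_arith hp hp2 hN hq he hd2 hcount hfinal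
  refine ⟨h2, e, ?_, h3, ?_⟩
  · rcases Nat.eq_zero_or_pos e with h | h
    · rw [he, h, pow_zero] at hd2; omega
    · exact h
  · show Nat.card T = _
    rw [hN', he, h2, ← pow_mul, mul_comm]

end H1.Shult
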