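import Cfsg.Agent.H29.EigenProjections

/-!
Common eigenvectors of commuting operators of finite order over an algebraically closed field.
-/

set_option autoImplicit false

namespace H1.Shult

open Module
open Cfsg.Agent.H29 (eigProj sum_eigProj mul_eigProj)

variable {A : Type*} [Group A] {K : Type*} [Field K] {V : Type*} [AddCommGroup V] [Module K V]

/-- Eigenvectors for pairwise different functions are independent. -/
theorem eigen_sum_eq_zero (ρ : A → Module.End K V) {ι : Type*} (s : Finset ι) (x : ι → V)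
    (χ : ι → A → K) (hχ : ∀ i ∈ s, ∀ j ∈ s, χ i = χ j → i = j)
    (hx : ∀ i ∈ s, ∀ a, ρ a (x i) = χ i a • x i) (h : ∑ i ∈ s, x i = 0) :
    ∀ i ∈ s, x i = 0 := by
  classical
  induction s using Finset.induction generalizing x with
  | empty => intro i hi; exact absurd hi (Finset.notMem_empty i)
  | @insert j s hj ih =>
    have hs : ∀ i ∈ s, x i = 0 := by
      intro i hi
      obtain ⟨a, ha⟩ : ∃ a, χ i a ≠ χ j a := by
        by_contra hno
        push Not at hno
        exact hj (hχ i (Finset.mem_insert_of_mem hi) j (Finset.mem_insert_self _ _) (funext hno) ▸ hi)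
      have h0 : ∑ l ∈ s, (χ l a - χ j a) • x l = 0 := by
        have h1 : ∑ l ∈ insert j s, (χ l a • x l - χ j a • x l) = 0 := by
          rw [Finset.sum_sub_distrib, ← Finset.smul_sum, h, smul_zero, sub_zero]
          have := congrArg (ρ a) h
          rw [map_sum, map_zero] at this
          rw [← this]
          exact Finset.sum_congr rfl fun l hl => (hx l hl a).symm
        rw [Finset.sum_insert hj, sub_self, zero_add] at h1
        simpa [sub_smul] using h1
      have h2 := ih (fun l => (χ l a - χ j a) • x l)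
        (fun l hl l' hl' => hχ l (Finset.mem_insert_of_mem hl) l' (Finset.mem_insert_of_mem hl'))
        (fun l hl b => by rw [map_smul, hx l (Finset.mem_insert_of_mem hl) b, smul_comm]) h0 i hi
      exact (smul_eq_zero.mp h2).resolve_left (sub_ne_zero.mpr ha)
    intro i hi
    rcases Finset.mem_insert.mp hi with rfl | hi'
    · rwa [Finset.sum_insert hj, Finset.sum_eq_zero hs, add_zero] at h
    · exact hs i hi'

variable [IsAlgClosed K] [FiniteDimensional K V]

/-- Commuting operators have a common eigenvector in every invariant subspace. -/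
theorem exists_eigen_mem (ρ : A → Module.End K V) (hcomm : ∀ a b, ρ a * ρ b = ρ b * ρ a)
    (U : Submodule K V) (hU : U ≠ ⊥) (hinv : ∀ a, ∀ v ∈ U, ρ a v ∈ U) :
    ∃ v ∈ U, v ≠ 0 ∧ ∀ a, ∃ k : K, ρ a v = k • v := by
  obtain ⟨S, ⟨hS0, hSinv, hSU⟩, hmin⟩ := wellFounded_lt.has_min
    {X : Submodule K V | X ≠ ⊥ ∧ (∀ a, ∀ v ∈ X, ρ a v ∈ X) ∧ X ≤ U} ⟨U, hU, hinv, le_rfl⟩
  haveI : Nontrivial S := Submodule.nontrivial_iff_ne_bot.mpr hS0
  obtain ⟨v, hv, hv0⟩ := (Submodule.ne_bot_iff S).mp hS0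
  refine ⟨v, hSU hv, hv0, fun a => ?_⟩
  obtain ⟨k, hk⟩ := Module.End.exists_eigenvalue ((ρ a).restrict (hSinv a))
  obtain ⟨w, hw, hw0⟩ := hk.exists_hasEigenvector
  refine ⟨k, ?_⟩
  let E : Submodule K V := S ⊓ LinearMap.ker (ρ a - k • (1 : Module.End K V))
  have hmemE : ∀ x, x ∈ E ↔ x ∈ S ∧ ρ a x = k • x := fun x => by
    simp [E, sub_eq_zero]
  have hE0 : E ≠ ⊥ := by
    refine (Submodule.ne_bot_iff E).mpr ⟨(w : V), (hmemE _).mpr ⟨w.2, ?_⟩, fun h => hw0 (Subtype.ext h)⟩
    exact congrArg Subtype.val (Module.End.mem_eigenspace_iff.mp hw)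
  have hEinv : ∀ b, ∀ x ∈ E, ρ b x ∈ E := by
    intro b x hx
    rw [hmemE] at hx ⊢
    refine ⟨hSinv b x hx.1, ?_⟩
    rw [← Module.End.mul_apply, hcomm, Module.End.mul_apply, hx.2, map_smul]
  have hSE : S ≤ E := by
    by_contra hne
    exact hmin E ⟨hE0, hEinv, inf_le_left.trans hSU⟩
      (lt_of_le_of_ne inf_le_left fun h => hne h.ge)
  exact ((hmemE v).mp (hSE hv)).2

/-- An operator of finite order prime to the characteristic is a scalar as soon as it has one
eigenvalue on the common eigenvectors. -/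
theorem eq_smul_of_eigen (ρ : A →* Module.End K V) (hcomm : ∀ a b, ρ a * ρ b = ρ b * ρ a) (a : A)
    (ha : (orderOf a : K) ≠ 0) (k : K)
    (h : ∀ v : V, v ≠ 0 → ∀ χ : A → K, (∀ b, ρ b v = χ b • v) → χ a = k) :
    ρ a = k • (1 : Module.End K V) := by
  classical
  haveI : NeZero (orderOf a : K) := ⟨ha⟩
  obtain ⟨ζ, hζ⟩ := HasEnoughRootsOfUnity.exists_primitiveRoot K (orderOf a)
  refine LinearMap.ext fun v => ?_
  have hv : v = ∑ i : Fin (orderOf a), eigProj (ρ a) (orderOf a) ζ i v := by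
    rw [← LinearMap.sum_apply, sum_eigProj _ hζ ha, Module.End.one_apply]
  rw [LinearMap.smul_apply, Module.End.one_apply, hv, map_sum, Finset.smul_sum]
  refine Finset.sum_congr rfl fun i _ => ?_
  set w := eigProj (ρ a) (orderOf a) ζ i v with hw
  have hwi : ρ a w = ζ ^ (i : ℕ) • w := by
    rw [hw, ← Module.End.mul_apply, mul_eigProj _ hζ ha (by rw [← map_pow, pow_orderOf_eq_one, map_one]),
      LinearMap.smul_apply]
  by_cases hw0 : w = 0
  · rw [hw0, map_zero, smul_zero]
  let U : Submodule K V := LinearMap.ker (ρ a - ζ ^ (i : ℕ) • (1 : Module.End K V))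
  have hmem : ∀ x, x ∈ U ↔ ρ a x = ζ ^ (i : ℕ) • x := fun x => by simp [U, sub_eq_zero]
  obtain ⟨x, hxU, hx0, hx⟩ := exists_eigen_mem ρ hcomm U
    ((Submodule.ne_bot_iff U).mpr ⟨w, (hmem w).mpr hwi, hw0⟩)
    (fun b x hx => by
      rw [hmem] at hx ⊢
      rw [← Module.End.mul_apply, hcomm, Module.End.mul_apply, hx, map_smul])
  choose χ hχ using hx
  have he := h x hx0 χ hχ
  have h2 : χ a • x = ζ ^ (i : ℕ) • x := (hχ a).symm.trans ((hmem x).mp hxU)
  rw [he] at h2
  rw [hwi, smul_left_injective K hx0 h2]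

end H1.Shult
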