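import Cfsg.Agent.H1.Shult.CyclicHH
import Cfsg.Agent.H1.Shult.Eigen
import Cfsg.Agent.H1.Shult.Arith
import Cfsg.Agent.H28.FPFAut

/-!
The module theorem behind Shult–Gross: if a fixed-point-free automorphism `σ` of order dividing
`p ^ (n + 1)`, `p` odd, of a `q`-group `Q` extends to a module faithful for `Q` on which the norm of `σ`
vanishes, then `σ ^ (p ^ n)` is trivial on `Q`.
-/

set_option autoImplicit false
set_option linter.style.haveILetI false

namespace H1.Shult

open Module Subgroup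
open H28 (FPF)

universe u v w

theorem periodicPt_pred {α : Type*} {f : α → α} {x : α} {p n d : ℕ} (hp : p.Prime)
    (hN : Function.IsPeriodicPt f (p ^ (n + 1)) x) (hd : Function.IsPeriodicPt f d x)
    (h0 : 0 < d) (hlt : d < p ^ (n + 1)) : Function.IsPeriodicPt f (p ^ n) x := by
  obtain ⟨j, hj, hg⟩ := (Nat.dvd_prime_pow hp).mp (Nat.gcd_dvd_left (p ^ (n + 1)) d)
  have hjn : j ≤ n := by
    by_contra h
    have h1 : p ^ (n + 1) ∣ d := by
      rw [show n + 1 = j by omega, ← hg]; exact Nat.gcd_dvd_right _ _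
    exact absurd (Nat.le_of_dvd h0 h1) (by omega)
  exact (hg ▸ hN.gcd hd).trans_dvd (pow_dvd_pow p hjn)

theorem sum_range_mul' {M : Type*} [AddCommMonoid M] (f : ℕ → M) (a b : ℕ) :
    ∑ i ∈ Finset.range (a * b), f i = ∑ l ∈ Finset.range b, ∑ j ∈ Finset.range a, f (a * l + j) := by
  induction b with
  | zero => simp
  | succ b ih => rw [Nat.mul_succ, Finset.sum_range_add, ih, Finset.sum_range_succ]

theorem prod_range_mul' {M : Type*} [CommMonoid M] (f : ℕ → M) (a b : ℕ) :
    ∏ i ∈ Finset.range (a * b), f i = ∏ l ∈ Finset.range b, ∏ j ∈ Finset.range a, f (a * l + j) := by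
  induction b with
  | zero => simp
  | succ b ih => rw [Nat.mul_succ, Finset.prod_range_add, ih, Finset.prod_range_succ]

theorem autPow_apply {A : Type*} [Group A] (σ : MulAut A) (i : ℕ) (a : A) :
    (σ ^ i) a = (σ : A → A)^[i] a := by
  induction i generalizing a with
  | zero => rfl
  | succ i ih => rw [pow_succ, MulAut.mul_apply, ih, Function.iterate_succ_apply]

theorem comp_iterate {A B : Type*} [Group A] (σ : MulAut A) (χ : A → B) (i : ℕ) :
    (fun ψ : A → B => ψ ∘ σ)^[i] χ = χ ∘ ⇑(σ ^ i) := by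
  induction i with
  | zero => rfl
  | succ i ih =>
    rw [Function.iterate_succ_apply', ih]
    funext a
    simp [pow_succ, MulAut.mul_apply]

theorem pow_compat {A : Type*} [Group A] {R : Type*} [Monoid R] (ρ : A → R) (σ : MulAut A) (S : R)
    (h : ∀ a, S * ρ a = ρ (σ a) * S) (i : ℕ) (a : A) : S ^ i * ρ a = ρ ((σ ^ i) a) * S ^ i := by
  induction i generalizing a with
  | zero => simp
  | succ i ih => rw [pow_succ, mul_assoc, h, ← mul_assoc, ih, mul_assoc, pow_succ σ, MulAut.mul_apply]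

variable {K : Type v} [Field K] {V : Type w} [AddCommGroup V] [Module K V]

/-- A vanishing orbit sum of an eigenvector with a regular orbit of characters is trivial. -/
theorem eq_zero_of_orbit_sum {A : Type u} [Group A] (ρ : A → Module.End K V) (σ : MulAut A)
    (S : Module.End K V) (hcomp : ∀ a, S * ρ a = ρ (σ a) * S) {P : ℕ} (hP : 0 < P) (y : V)
    (χ : A → K) (hy : ∀ a, ρ a y = χ a • y)
    (hχ : ∀ d, 0 < d → d < P → χ ∘ ⇑(σ ^ d) ≠ χ)
    (hsum : ∑ i ∈ Finset.range P, (S ^ i) y = 0) : y = 0 := by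
  have hinj : ∀ i j, i < j → j < P →
      (fun a => χ (((σ ^ i)⁻¹ : MulAut A) a)) ≠ fun a => χ (((σ ^ j)⁻¹ : MulAut A) a) := by
    intro i j hij hj h
    refine hχ (j - i) (by omega) (by omega) (funext fun c => ?_)
    have h1 := congrFun h ((σ ^ j) c)
    simp only [MulAut.inv_apply_self] at h1
    rw [show (σ ^ j) c = (σ ^ i) ((σ ^ (j - i)) c) by
      rw [← MulAut.mul_apply, ← pow_add, show i + (j - i) = j by omega], MulAut.inv_apply_self] at h1
    exact h1
  have h0 := eigen_sum_eq_zero ρ (Finset.range P) (fun i => (S ^ i) y)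
    (fun i a => χ (((σ ^ i)⁻¹ : MulAut A) a))
    (fun i hi j hj h => by
      rcases lt_trichotomy i j with hl | hl | hl
      · exact absurd h (hinj i j hl (Finset.mem_range.mp hj))
      · exact hl
      · exact absurd h.symm (hinj j i hl (Finset.mem_range.mp hi)))
    (fun i _ a => by
      show ρ a ((S ^ i) y) = _
      conv_lhs => rw [show a = (σ ^ i) (((σ ^ i)⁻¹ : MulAut A) a) from (MulAut.apply_inv_self _ _ _).symm]
      rw [← Module.End.mul_apply, ← pow_compat ρ σ S hcomp, Module.End.mul_apply, hy, map_smul])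
    hsum 0 (Finset.mem_range.mpr hP)
  simpa using h0

variable [IsAlgClosed K] [FiniteDimensional K V]

theorem natCast_orderOf_ne_zero {A : Type u} [Group A] {q : ℕ} [Fact q.Prime] (hA : IsPGroup q A)
    (hq : (q : K) ≠ 0) (a : A) : (orderOf a : K) ≠ 0 := by
  obtain ⟨j, hj⟩ := IsPGroup.iff_orderOf.mp hA a
  rw [hj, Nat.cast_pow]
  exact pow_ne_zero _ hq

/-- Abelian groups with a fixed-point-free `σ ^ (p ^ n)` act trivially. -/
theorem abelian_step {A : Type u} [Group A] [Finite A] {q : ℕ} [Fact q.Prime] (hA : IsPGroup q A)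
    (hcomm : ∀ a b : A, a * b = b * a) {p n : ℕ} (hp : p.Prime) (σ : MulAut A)
    (hσ : σ ^ (p ^ (n + 1)) = 1) (hτ : FPF (σ ^ (p ^ n))) (hq : (q : K) ≠ 0)
    (ρ : A →* Module.End K V) (S : Module.End K V) (hcomp : ∀ a, S * ρ a = ρ (σ a) * S)
    (hsum : ∀ v, ∑ i ∈ Finset.range (p ^ (n + 1)), (S ^ i) v = 0) (a : A) : ρ a = 1 := by
  rw [← one_smul K (1 : Module.End K V)]
  refine eq_smul_of_eigen ρ (fun b c => by rw [← map_mul, ← map_mul, hcomm])
    a (natCast_orderOf_ne_zero hA hq a) 1 fun v hv χ hχ => ?_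
  have hmul : ∀ b c, χ (b * c) = χ b * χ c := by
    intro b c
    refine smul_left_injective K hv ?_
    show χ (b * c) • v = (χ b * χ c) • v
    rw [← hχ, map_mul, Module.End.mul_apply, hχ c, map_smul, hχ b, smul_smul, mul_comm]
  have h1 : χ 1 = 1 := by
    refine smul_left_injective K hv ?_
    show χ 1 • v = (1 : K) • v
    rw [← hχ, map_one, Module.End.one_apply, one_smul]
  refine by_contra fun hne => hv (eq_zero_of_orbit_sum ρ σ S hcomp (pow_pos hp.pos _) v χ hχ ?_ (hsum v))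
  intro d hd0 hd heq
  have hper : Function.IsPeriodicPt (fun ψ : A → K => ψ ∘ σ) (p ^ n) χ := by
    refine periodicPt_pred hp ?_ ?_ hd0 hd
    · show _ = χ
      rw [comp_iterate, hσ]; rfl
    · show _ = χ
      rw [comp_iterate]; exact heq
  have hp' : χ ∘ ⇑(σ ^ (p ^ n)) = χ := (comp_iterate σ χ _).symm.trans hper
  obtain ⟨b, hb⟩ := (H28.fpf_bijective hτ).2 a
  apply hne
  rw [← hb, hmul, show χ ((σ ^ p ^ n) b) = χ b from congrFun hp' b, ← hmul, inv_mul_cancel, h1]

theorem fpf_of_closure {A : Type u} [Group A] [Finite A] (hcomm : ∀ a b : A, a * b = b * a)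
    (τ : MulAut A) (hgen : closure (Set.range fun a => a⁻¹ * τ a) = ⊤) : FPF τ := by
  let f : A →* A := MonoidHom.mk' (fun a => a⁻¹ * τ a) fun a b => by
    rw [map_mul, mul_inv_rev, mul_assoc, mul_assoc, hcomm b⁻¹ (a⁻¹ * (τ a * τ b)), hcomm b⁻¹ (τ b)]
    simp only [mul_assoc]
  have hsurj : Function.Surjective f := by
    rw [← MonoidHom.range_eq_top, eq_top_iff, ← hgen, closure_le]
    rintro _ ⟨a, rfl⟩
    exact ⟨a, rfl⟩
  intro a ha
  have h : f a = f 1 := by
    show a⁻¹ * τ a = 1⁻¹ * τ 1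
    rw [ha, map_one, inv_mul_cancel, inv_one, one_mul]
  exact Finite.injective_iff_surjective.mpr hsurj h

/-- The group of class two cannot occur. -/
theorem class_two_step {Q : Type u} [Group Q] [Finite Q] {q : ℕ} [hqf : Fact q.Prime] (hQ : IsPGroup q Q)
    {p n : ℕ} (hp : p.Prime) (hp2 : p ≠ 2) (σ : MulAut Q) (hσ : σ ^ (p ^ (n + 1)) = 1) (hfpf : FPF σ)
    (hcls : ∀ a b : Q, a * b * a⁻¹ * b⁻¹ ∈ center Q)
    (hτZ : ∀ c ∈ center Q, (σ ^ (p ^ n)) c = c)
    (hτfree : ∀ a, a⁻¹ * (σ ^ (p ^ n)) a ∈ center Q → a ∈ center Q)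
    (hnc : ∃ a : Q, a ∉ center Q) (hpK : (p : K) ≠ 0) (hq : (q : K) ≠ 0) (hqp : q ≠ p)
    (ρ : Q →* Module.End K V) (hρ : Function.Injective ρ) (S : Module.End K V)
    (hS : S ^ (p ^ (n + 1)) = 1) (hcomp : ∀ a, S * ρ a = ρ (σ a) * S)
    (hsum : ∀ v, ∑ i ∈ Finset.range (p ^ (n + 1)), (S ^ i) v = 0) : False := by
  classical
  obtain ⟨c₁, hc₁⟩ := hnc
  obtain ⟨d₁, hd₁⟩ : ∃ d₁, c₁ * d₁ * c₁⁻¹ * d₁⁻¹ ≠ 1 := by
    by_contra hno
    push Not at hno
    refine hc₁ (Subgroup.mem_center_iff.mpr fun d => ?_)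
    have := hno d
    rw [mul_inv_eq_one, mul_inv_eq_iff_eq_mul] at this
    exact this.symm
  let Z : Subgroup Q := center Q
  have hZc : ∀ z : Z, ∀ a : Q, a * z = z * a := fun z a => Subgroup.mem_center_iff.mp z.2 a
  have hσZ : ∀ x ∈ Z, σ x ∈ Z := H28.char_apply_mem σ Z
  let σz : MulAut Z := H28.subAut σ Z hσZ
  have hσzpow : ∀ (i : ℕ) (z : Z), (((σz ^ i) z : Z) : Q) = (σ ^ i) z := H28.subAut_pow_coe σ Z hσZ
  let ρZ : Z →* Module.End K V := ρ.comp Z.subtype
  have hρZcomm : ∀ a b : Z, ρZ a * ρZ b = ρZ b * ρZ a := fun a b => by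
    rw [← map_mul, ← map_mul, show a * b = b * a from Subtype.ext (hZc b a)]
  -- the central character
  obtain ⟨v, hv, χ, hχ, hχc⟩ : ∃ v : V, v ≠ 0 ∧ ∃ χ : Z → K, (∀ z : Z, ρ z v = χ z • v) ∧
      χ ⟨_, hcls c₁ d₁⟩ ≠ 1 := by
    by_contra hno
    push Not at hno
    have h1 := eq_smul_of_eigen ρZ hρZcomm ⟨_, hcls c₁ d₁⟩
      (natCast_orderOf_ne_zero (hQ.to_subgroup Z) hq _) 1 (fun v hv χ hχ => hno v hv χ hχ)
    rw [one_smul] at h1
    exact hd₁ (hρ (h1.trans (map_one ρ).symm))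
  have hmul : ∀ b c, χ (b * c) = χ b * χ c := by
    intro b c
    refine smul_left_injective K hv ?_
    show χ (b * c) • v = (χ b * χ c) • v
    rw [← hχ, Subgroup.coe_mul, map_mul, Module.End.mul_apply, hχ c, map_smul, hχ b, smul_smul, mul_comm]
  have hχ1 : χ 1 = 1 := by
    refine smul_left_injective K hv ?_
    show χ 1 • v = (1 : K) • v
    rw [← hχ, Subgroup.coe_one, map_one, Module.End.one_apply, one_smul]
  let χhom : Z →* K := { toFun := χ, map_one' := hχ1, map_mul' := hmul }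
  -- the length of the orbit
  let F : (Z → K) → (Z → K) := fun ψ => ψ ∘ σz
  have hFn : Function.IsPeriodicPt F (p ^ n) χ := by
    show _ = χ
    rw [comp_iterate]
    funext z
    show χ ((σz ^ p ^ n) z) = χ z
    exact congrArg χ (Subtype.ext ((hσzpow _ z).trans (hτZ z z.2)))
  obtain ⟨k, hkn, hPk⟩ := (Nat.dvd_prime_pow hp).mp hFn.minimalPeriod_dvd
  set P := Function.minimalPeriod F χ with hP
  have hP0 : 0 < P := hPk ▸ pow_pos hp.pos k
  set m := n - k with hm
  have hPN : p ^ (n + 1) = P * p ^ (m + 1) := by rw [hPk, ← pow_add]; congr 1; omega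
  have hPn : P * p ^ m = p ^ n := by rw [hPk, ← pow_add]; congr 1; omega
  set N := p ^ (m + 1) with hN
  have hχP : ∀ z, χ ((σz ^ P) z) = χ z := fun z => by
    have h := Function.isPeriodicPt_minimalPeriod F χ
    rw [← hP] at h
    exact congrFun ((comp_iterate σz χ P).symm.trans h) z
  have hχmin : ∀ d, 0 < d → d < P → χ ∘ ⇑(σz ^ d) ≠ χ := fun d hd0 hd h => by
    have : Function.IsPeriodicPt F d χ := (comp_iterate σz χ d).trans h
    exact absurd (this.minimalPeriod_le hd0) (by omega)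
  -- the eigenspace
  let W : Submodule K V :=
    { carrier := {w | ∀ z : Z, ρ z w = χ z • w}
      add_mem' := fun {a b} ha hb z => by rw [map_add, ha z, hb z, smul_add]
      zero_mem' := fun z => by rw [map_zero, smul_zero]
      smul_mem' := fun c a ha z => by rw [map_smul, ha z, smul_comm] }
  haveI : Nontrivial W := Submodule.nontrivial_iff_ne_bot.mpr ((Submodule.ne_bot_iff W).mpr ⟨v, hχ, hv⟩)
  have hρW : ∀ a : Q, ∀ w ∈ W, ρ a w ∈ W := fun a w hw z => by
    rw [← Module.End.mul_apply, ← map_mul, ← hZc z a, map_mul, Module.End.mul_apply, hw z, map_smul]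
  let ρW : Q →* Module.End K W :=
    { toFun := fun a => (ρ a).restrict (hρW a)
      map_one' := LinearMap.ext fun w => Subtype.ext (by
        show ρ 1 (w : V) = _
        rw [map_one]; rfl)
      map_mul' := fun a b => LinearMap.ext fun w => Subtype.ext (by
        show ρ (a * b) (w : V) = _
        rw [map_mul]; rfl) }
  have hρWZ : ∀ z : Z, ρW z = χ z • (1 : Module.End K W) := fun z =>
    LinearMap.ext fun w => Subtype.ext (w.2 z)
  let θ : MulAut Q := σ ^ P
  have hcompP : ∀ a, S ^ P * ρ a = ρ (θ a) * S ^ P := pow_compat ρ σ S hcomp P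
  have huW : ∀ w ∈ W, (S ^ P) w ∈ W := by
    intro w hw z
    obtain ⟨y, rfl⟩ := (σz ^ P).surjective z
    rw [hσzpow, ← Module.End.mul_apply, ← hcompP, Module.End.mul_apply, hw y, map_smul, hχP]
  let uW : Module.End K W := (S ^ P).restrict huW
  have huWpow : ∀ (l : ℕ) (w : W), (((uW ^ l) w : W) : V) = (S ^ (P * l)) w := by
    intro l
    induction l with
    | zero => intro w; simp
    | succ l ih =>
      intro w
      rw [pow_succ', Module.End.mul_apply, Nat.mul_succ, add_comm, pow_add, Module.End.mul_apply, ← ih]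
      rfl
  have hcompW : ∀ a, uW * ρW a = ρW (θ a) * uW := fun a =>
    LinearMap.ext fun w => Subtype.ext (congrArg (fun f : Module.End K V => f (w : V)) (hcompP a))
  have hsumW : ∀ w : W, ∑ l ∈ Finset.range N, (uW ^ l) w = 0 := by
    intro w
    apply Subtype.ext
    set y : V := ((∑ l ∈ Finset.range N, (uW ^ l) w : W) : V) with hy
    have hyW : ∀ z : Z, ρ z y = χ z • y := (∑ l ∈ Finset.range N, (uW ^ l) w : W).2
    refine eq_zero_of_orbit_sum (ρ ∘ Z.subtype) σz S (fun z => hcomp z) hP0 y χ hyW hχmin ?_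
    have h := hsum (w : V)
    rw [hPN, sum_range_mul', Finset.sum_comm] at h
    refine Eq.trans (Finset.sum_congr rfl fun j _ => ?_) h
    rw [hy, AddSubmonoidClass.coe_finsetSum, map_sum]
    refine Finset.sum_congr rfl fun l _ => ?_
    rw [huWpow, ← Module.End.mul_apply, ← pow_add, add_comm]
  have huWN : uW ^ N = 1 := LinearMap.ext fun w => Subtype.ext (by
    rw [huWpow, ← hPN, hS]; rfl)
  have hNK : (N : K) ≠ 0 := by rw [hN, Nat.cast_pow]; exact pow_ne_zero _ hpK
  have hfixW : ∀ w, uW w = w → w = 0 := by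
    intro w hw
    have h := hsumW w
    have hl : ∀ l : ℕ, (uW ^ l) w = w := by
      intro l
      induction l with
      | zero => rfl
      | succ l ih => rw [pow_succ, Module.End.mul_apply, hw, ih]
    rw [Finset.sum_congr rfl (fun l _ => hl l), Finset.sum_const, Finset.card_range,
      ← Nat.cast_smul_eq_nsmul K] at h
    exact (smul_eq_zero.mp h).resolve_left hNK
  have hθN : θ ^ N = 1 := by rw [← pow_mul, ← hPN, hσ]
  have hθm : θ ^ (p ^ m) = σ ^ (p ^ n) := by rw [← pow_mul, hPn]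
  -- the radical
  let R : Subgroup Q :=
    { carrier := {x | ∀ a, ρW x * ρW a = ρW a * ρW x}
      one_mem' := fun a => by rw [map_one, one_mul, mul_one]
      mul_mem' := fun {x y} hx hy a => by rw [map_mul, mul_assoc, hy a, ← mul_assoc, hx a, mul_assoc]
      inv_mem' := fun {x} hx a => by
        have h : ρW x⁻¹ * ρW x = 1 := by rw [← map_mul, inv_mul_cancel, map_one]
        have h' : ρW x * ρW x⁻¹ = 1 := by rw [← map_mul, mul_inv_cancel, map_one]
        calc ρW x⁻¹ * ρW a = ρW x⁻¹ * ρW a * (ρW x * ρW x⁻¹) := by rw [h', mul_one]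
          _ = ρW x⁻¹ * (ρW a * ρW x) * ρW x⁻¹ := by noncomm_ring
          _ = ρW x⁻¹ * ρW x * (ρW a * ρW x⁻¹) := by rw [← hx a]; noncomm_ring
          _ = _ := by rw [h, one_mul] }
  have hZR : Z ≤ R := fun z hz a => by
    rw [show ρW z = χ ⟨z, hz⟩ • (1 : Module.End K W) from hρWZ ⟨z, hz⟩, smul_mul_assoc, mul_smul_comm,
      one_mul, mul_one]
  haveI hRn : R.Normal := ⟨fun x hx g => by
    have : g * x * g⁻¹ = (g * x * g⁻¹ * x⁻¹) * x := by group
    rw [this]; exact R.mul_mem (hZR (hcls g x)) hx⟩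
  have hc₁R : c₁ ∉ R := fun h => hχc (by
    have h1 : ρW (c₁ * d₁ * c₁⁻¹ * d₁⁻¹) = 1 := by
      rw [map_mul, map_mul, map_mul, h d₁, mul_assoc (ρW d₁), ← map_mul ρW c₁, mul_inv_cancel, map_one,
        mul_one, ← map_mul, mul_inv_cancel, map_one]
    obtain ⟨w, hw⟩ := exists_ne (0 : W)
    have h2 : χ ⟨_, hcls c₁ d₁⟩ • w = (1 : K) • w := by
      rw [one_smul]
      have h3 := congrArg (fun f : Module.End K W => f w) ((hρWZ ⟨_, hcls c₁ d₁⟩).symm.trans h1)
      simpa using h3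
    exact smul_left_injective K hw h2)
  have huinj : ∀ f g : Module.End K W, f * uW = g * uW → f = g := by
    intro f g h
    have h' := congrArg (fun t => t * uW ^ (N - 1)) h
    rw [mul_assoc, mul_assoc, ← pow_succ', show N - 1 + 1 = N by
      have : 1 ≤ N := hN ▸ Nat.one_le_pow _ _ hp.pos
      omega, huWN, mul_one, mul_one] at h'
    exact h'
  have hθR : ∀ x ∈ R, θ x ∈ R := by
    intro x hx a
    obtain ⟨b, rfl⟩ := θ.surjective a
    apply huinj
    rw [mul_assoc, ← hcompW, ← mul_assoc, ← hcompW, mul_assoc, hx b, ← mul_assoc, hcompW, mul_assoc,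
      hcompW, ← mul_assoc]
  have hθpowR : ∀ (i : ℕ), ∀ x ∈ R, (θ ^ i) x ∈ R := by
    intro i
    induction i with
    | zero => intro x hx; exact hx
    | succ i ih => intro x hx; rw [pow_succ', MulAut.mul_apply]; exact hθR _ (ih x hx)
  set τ := σ ^ (p ^ n) with hτ
  have hτR : ∀ x ∈ R, τ x ∈ R := hθm ▸ hθpowR (p ^ m)
  have hτZm : ∀ x ∈ Z, τ x ∈ Z := fun x hx => by rw [hτZ x hx]; exact hx
  let τq := H28.quotAut τ Z hτZm
  have hτq : FPF τq := by
    intro y hy
    obtain ⟨g, rfl⟩ := QuotientGroup.mk_surjective y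
    rw [H28.quotAut_mk] at hy
    exact (QuotientGroup.eq_one_iff g).mpr (hτfree g (QuotientGroup.eq.mp hy.symm))
  have hsubfree : ∀ (H : Subgroup Q), Z ≤ H → (∀ x ∈ H, τ x ∈ H) → ∀ a, a⁻¹ * τ a ∈ H → a ∈ H := by
    intro H hH hHτ a ha
    have h1 : ∀ y ∈ H.map (QuotientGroup.mk' Z), τq y ∈ H.map (QuotientGroup.mk' Z) := by
      rintro _ ⟨x, hx, rfl⟩
      exact ⟨τ x, hHτ x hx, rfl⟩
    have h2 : (QuotientGroup.mk a : Q ⧸ Z)⁻¹ * τq (QuotientGroup.mk a) ∈ H.map (QuotientGroup.mk' Z) :=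
      ⟨_, ha, rfl⟩
    have h3 : a ∈ (H.map (QuotientGroup.mk' Z)).comap (QuotientGroup.mk' Z) :=
      H28.mem_of_inv_mul_apply_mem hτq h1 h2
    rwa [Subgroup.comap_map_eq, QuotientGroup.ker_mk', sup_eq_left.mpr hH] at h3
  -- the radical acts by scalars
  have hRscal : ∀ r ∈ R, ∃ k : K, ρW r = k • (1 : Module.End K W) := by
    intro r hr
    let σR : MulAut R := H28.subAut θ R hθR
    have hσRpow : ∀ (i : ℕ) (x : R), (((σR ^ i) x : R) : Q) = (θ ^ i) x := H28.subAut_pow_coe θ R hθR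
    let ρR : R →* Module.End K W := ρW.comp R.subtype
    have hs : ∀ x : R, ∃ s : R, ∃ z : Z, x = (⟨(s : Q)⁻¹ * τ s, R.mul_mem (R.inv_mem s.2) (hτR _ s.2)⟩ : R)
        * ⟨z, hZR z.2⟩ := by
      intro x
      have h1 : ∀ y ∈ R.map (QuotientGroup.mk' Z), τq y ∈ R.map (QuotientGroup.mk' Z) := by
        rintro _ ⟨y, hy, rfl⟩
        exact ⟨τ y, hτR y hy, rfl⟩
      obtain ⟨⟨_, s, hs, rfl⟩, hse⟩ := (H28.fpf_bijective (H28.fpf_subAut hτq _ h1)).2 ⟨_, x, x.2, rfl⟩
      have h2 : (QuotientGroup.mk (s⁻¹ * τ s) : Q ⧸ Z) = QuotientGroup.mk (x : Q) := congrArg Subtype.val hse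
      exact ⟨⟨s, hs⟩, ⟨_, QuotientGroup.eq.mp h2⟩, Subtype.ext (mul_inv_cancel_left _ _).symm⟩
    obtain ⟨s, z, hsz⟩ := hs ⟨r, hr⟩
    refine ⟨χ z, eq_smul_of_eigen ρR (fun a b => a.2 b) ⟨r, hr⟩
      (natCast_orderOf_ne_zero (hQ.to_subgroup R) hq _) _ fun w hw ψ hψ => ?_⟩
    have hψmul : ∀ b c, ψ (b * c) = ψ b * ψ c := by
      intro b c
      refine smul_left_injective K hw ?_
      show ψ (b * c) • w = (ψ b * ψ c) • w
      rw [← hψ, map_mul, Module.End.mul_apply, hψ c, map_smul, hψ b, smul_smul, mul_comm]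
    have hψ1 : ψ 1 = 1 := by
      refine smul_left_injective K hw ?_
      show ψ 1 • w = (1 : K) • w
      rw [← hψ, map_one, Module.End.one_apply, one_smul]
    have hψZ : ψ ⟨z, hZR z.2⟩ = χ z := by
      refine smul_left_injective K hw ?_
      show ψ ⟨z, hZR z.2⟩ • w = χ z • w
      rw [← hψ]
      show ρW z w = _
      rw [hρWZ z, LinearMap.smul_apply, Module.End.one_apply]
    have hψτ : ∀ x : R, ψ ((σR ^ p ^ m) x) = ψ x := by
      by_contra hne
      refine hw (eq_zero_of_orbit_sum ρR σR uW (fun x => hcompW x) (hN ▸ pow_pos hp.pos _) w ψ hψ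
        (fun d hd0 hd heq => hne fun x => ?_) (hsumW w))
      have hper : Function.IsPeriodicPt (fun φ : R → K => φ ∘ σR) (p ^ m) ψ := by
        refine periodicPt_pred hp ?_ ?_ hd0 hd
        · show _ = ψ
          rw [comp_iterate]
          funext y
          exact congrArg ψ (Subtype.ext ((hσRpow _ y).trans (by rw [hθN]; rfl)))
        · show _ = ψ
          rw [comp_iterate]; exact heq
      exact congrFun ((comp_iterate σR ψ _).symm.trans hper) x
    have hψs : ψ ⟨(s : Q)⁻¹ * τ s, R.mul_mem (R.inv_mem s.2) (hτR _ s.2)⟩ = 1 := by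
      have he : (⟨(s : Q)⁻¹ * τ s, R.mul_mem (R.inv_mem s.2) (hτR _ s.2)⟩ : R) = s⁻¹ * (σR ^ p ^ m) s :=
        Subtype.ext (by rw [Subgroup.coe_mul, Subgroup.coe_inv, hσRpow, hθm])
      rw [he, hψmul, hψτ, ← hψmul, inv_mul_cancel, hψ1]
    rw [hsz, hψmul, hψs, hψZ, one_mul]
  -- the image of `Q`
  let Kn : Subgroup Q := ρW.ker
  let Qb := Q ⧸ Kn
  have hKn : ∀ x ∈ Kn, θ x ∈ Kn := by
    intro x hx
    rw [MonoidHom.mem_ker] at hx ⊢
    apply huinj
    rw [← hcompW, hx, mul_one, one_mul]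
  let θb : MulAut Qb := H28.quotAut θ Kn hKn
  let ρb : Qb →* Module.End K W := QuotientGroup.lift Kn ρW le_rfl
  have hρbmk : ∀ a : Q, ρb (QuotientGroup.mk a) = ρW a := fun a => rfl
  have hρb : Function.Injective ρb := by
    intro x y hxy
    obtain ⟨a, rfl⟩ := QuotientGroup.mk_surjective x
    obtain ⟨b, rfl⟩ := QuotientGroup.mk_surjective y
    rw [hρbmk, hρbmk] at hxy
    refine QuotientGroup.eq.mpr (MonoidHom.mem_ker.mpr ?_)
    rw [map_mul, ← hxy, ← map_mul, inv_mul_cancel, map_one]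
  have hcen : ∀ a : Q, (QuotientGroup.mk a : Qb) ∈ center Qb ↔ a ∈ R := by
    intro a
    rw [Subgroup.mem_center_iff]
    constructor
    · intro h b
      have := congrArg ρb (h (QuotientGroup.mk b))
      rw [map_mul, map_mul, hρbmk, hρbmk] at this
      exact this.symm
    · intro h y
      obtain ⟨b, rfl⟩ := QuotientGroup.mk_surjective y
      apply hρb
      rw [map_mul, map_mul, hρbmk, hρbmk]
      exact (h b).symm
  have hθbit : ∀ (i : ℕ) (a : Q), (θb : Qb → Qb)^[i] (QuotientGroup.mk a) = QuotientGroup.mk ((θ ^ i) a) := by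
    intro i a
    rw [← autPow_apply, H28.quotAut_pow_mk]
  have hHH := cyclicHH (Q := Qb) (q := q) (p := p) (m := m + 1) (N := N) hqf.out (hQ.to_quotient Kn) hp hp2 hN
    (fun x y => by
      obtain ⟨a, rfl⟩ := QuotientGroup.mk_surjective x
      obtain ⟨b, rfl⟩ := QuotientGroup.mk_surjective y
      exact (hcen (a * b * a⁻¹ * b⁻¹)).mpr (hZR (hcls a b)))
    ⟨QuotientGroup.mk c₁, fun h => hc₁R ((hcen c₁).mp h)⟩ θb
    (fun x => by
      obtain ⟨a, rfl⟩ := QuotientGroup.mk_surjective x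
      rw [hθbit, hθN]; rfl)
    (fun x hx => by
      obtain ⟨a, rfl⟩ := QuotientGroup.mk_surjective x
      obtain ⟨k', hk'⟩ := hRscal a ((hcen a).mp hx)
      apply hρb
      show ρW (θ a) = ρW a
      apply huinj
      rw [← hcompW, hk', mul_smul_comm, smul_mul_assoc, one_mul, mul_one])
    (fun i hi0 hi x hx => by
      obtain ⟨a, rfl⟩ := QuotientGroup.mk_surjective x
      rw [hθbit] at hx
      refine (hcen a).mpr (hsubfree R hZR hτR a ?_)
      let θR : MulAut (Q ⧸ R) := H28.quotAut θ R hθR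
      have hθRit : ∀ j : ℕ, (θR : Q ⧸ R → Q ⧸ R)^[j] (QuotientGroup.mk a) = QuotientGroup.mk ((θ ^ j) a) :=
        fun j => by rw [← autPow_apply, H28.quotAut_pow_mk]
      have hper : Function.IsPeriodicPt (θR : Q ⧸ R → Q ⧸ R) (p ^ m) (QuotientGroup.mk a) := by
        refine periodicPt_pred hp ?_ ?_ hi0 hi
        · show _ = _
          rw [hθRit, hθN]; rfl
        · show _ = _
          rw [hθRit]
          exact (QuotientGroup.eq.mpr ((hcen _).mp hx)).symm
      have h2 : (QuotientGroup.mk ((θ ^ p ^ m) a) : Q ⧸ R) = QuotientGroup.mk a := (hθRit _).symm.trans hper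
      rw [hθm] at h2
      exact QuotientGroup.eq.mp h2.symm)
    hNK ρb hρb
    (fun x hx => by
      obtain ⟨a, rfl⟩ := QuotientGroup.mk_surjective x
      exact hRscal a ((hcen a).mp hx))
    uW huWN hfixW
    (fun x => by
      obtain ⟨a, rfl⟩ := QuotientGroup.mk_surjective x
      exact hcompW a)
  obtain ⟨rfl, e, he, hNe, hcard⟩ := hHH
  have hRidx : R.index = 2 ^ (2 * e) := by
    have hR : R = (center Qb).comap (QuotientGroup.mk' Kn) := by
      ext a; exact (hcen a).symm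
    rw [hR, Subgroup.index_comap_of_surjective _ (QuotientGroup.mk'_surjective Kn)]
    exact hcard
  -- all conjugates of the radical
  let ι : Q →* (Fin P → Q ⧸ R) :=
    Pi.monoidHom fun j : Fin P => (QuotientGroup.mk' R).comp (σ ^ (j : ℕ)).toMonoidHom
  have hι : ∀ a j, ι a j = QuotientGroup.mk ((σ ^ ((j : Fin P) : ℕ)) a) := fun a j => rfl
  have hmemι : ∀ a, a ∈ ι.ker ↔ ∀ j : Fin P, (σ ^ (j : ℕ)) a ∈ R := fun a => by
    rw [MonoidHom.mem_ker]
    constructor
    · intro h j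
      exact (QuotientGroup.eq_one_iff _).mp (congrFun h j)
    · intro h
      funext j
      exact (QuotientGroup.eq_one_iff _).mpr (h j)
  have hσker : ∀ x ∈ ι.ker, σ x ∈ ι.ker := by
    intro x hx
    rw [hmemι] at hx ⊢
    intro j
    rw [← MulAut.mul_apply, ← pow_succ]
    rcases Nat.lt_or_ge ((j : ℕ) + 1) P with hlt | hge
    · exact hx ⟨_, hlt⟩
    · rw [show (j : ℕ) + 1 = P by omega]
      exact hθR x (hx ⟨0, hP0⟩)
  have hZker : Z ≤ ι.ker := by
    intro z hz
    rw [hmemι]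
    intro j
    apply hZR
    rw [show (σ ^ (j : ℕ)) z = ((σz ^ (j : ℕ)) ⟨z, hz⟩ : Q) from (hσzpow _ ⟨z, hz⟩).symm]
    exact SetLike.coe_mem _
  let σE := H28.quotAut σ ι.ker hσker
  have hσEpow : ∀ (i : ℕ) (g : Q), (σE ^ i) (QuotientGroup.mk g) = QuotientGroup.mk ((σ ^ i) g) :=
    H28.quotAut_pow_mk σ ι.ker hσker
  have hτker : ∀ x ∈ ι.ker, τ x ∈ ι.ker := by
    have : ∀ i : ℕ, ∀ x ∈ ι.ker, (σ ^ i) x ∈ ι.ker := by
      intro i
      induction i with
      | zero => intro x hx; exact hx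
      | succ i ih => intro x hx; rw [pow_succ', MulAut.mul_apply]; exact hσker _ (ih x hx)
    exact this _
  have hEfree : ∀ d, 0 < d → d < p ^ (n + 1) → ∀ y : Q ⧸ ι.ker, (σE ^ d) y = y → y = 1 := by
    intro d hd0 hd y hy
    obtain ⟨g, rfl⟩ := QuotientGroup.mk_surjective y
    have hit : ∀ i : ℕ, (σE : _ → _)^[i] (QuotientGroup.mk g) = QuotientGroup.mk ((σ ^ i) g) := fun i => by
      rw [← autPow_apply, hσEpow]
    have hper : Function.IsPeriodicPt (σE : _ → _) (p ^ n) (QuotientGroup.mk g) := by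
      refine periodicPt_pred hp ?_ ?_ hd0 hd
      · show _ = _
        rw [hit, hσ]; rfl
      · show _ = _
        rw [hit, ← hσEpow]; exact hy
    have h2 : (QuotientGroup.mk ((σ ^ p ^ n) g) : Q ⧸ ι.ker) = QuotientGroup.mk g := (hit _).symm.trans hper
    exact (QuotientGroup.eq_one_iff g).mpr (hsubfree ι.ker hZker hτker g (QuotientGroup.eq.mp h2.symm))
  have hEpow : ∀ i : ℕ, (σE.toEquiv ^ i : Equiv.Perm (Q ⧸ ι.ker)) = (σE ^ i).toEquiv := by
    intro i
    induction i with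
    | zero => rfl
    | succ i ih => rw [pow_succ, pow_succ, ih]; rfl
  have hne : (QuotientGroup.mk c₁ : Q ⧸ ι.ker) ≠ 1 := fun h => hc₁R (by
    have := (hmemι c₁).mp ((QuotientGroup.eq_one_iff c₁).mp h) ⟨0, hP0⟩
    simpa using this)
  have hcount := card_orbits_semiregular (σE.toEquiv : Equiv.Perm (Q ⧸ ι.ker)) (pow_pos hp.pos (n + 1)) 1
    (Equiv.ext fun y => by
      rw [hEpow]
      obtain ⟨g, rfl⟩ := QuotientGroup.mk_surjective y
      show (σE ^ p ^ (n + 1)) (QuotientGroup.mk g) = QuotientGroup.mk g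
      rw [hσEpow, hσ]; rfl)
    (map_one σE)
    (fun d hd0 hd y hy => hEfree d hd0 hd y (by rw [hEpow] at hy; exact hy))
    ⟨_, hne⟩
  obtain ⟨f, hf⟩ := IsPGroup.iff_card.mp (hQ.to_quotient ι.ker)
  rw [hf] at hcount
  have hdvd : Nat.card (Q ⧸ ι.ker) ∣ (2 ^ (2 * e)) ^ P := by
    rw [Nat.card_congr (QuotientGroup.quotientKerEquivRange ι).toEquiv]
    refine (Subgroup.card_subgroup_dvd_card ι.range).trans (dvd_of_eq ?_)
    rw [Nat.card_pi, Finset.prod_const, Finset.card_univ, Fintype.card_fin]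
    exact congrArg (· ^ P) hRidx
  have hfle : f ≤ 2 * e * P := by
    rw [hf, ← pow_mul] at hdvd
    exact (Nat.pow_dvd_pow_iff_le_right (by norm_num)).mp hdvd
  have hf1 : 1 ≤ f := by
    rcases Nat.eq_zero_or_pos f with h | h
    · exfalso
      rw [h, pow_zero] at hf
      exact hne ((Finite.card_le_one_iff_subsingleton.mp hf.le).elim _ _)
    · exact h
  have hdvd2 : p ^ (m + 1) * p ^ k ∣ 2 ^ f - 1 := by
    obtain ⟨o, ho⟩ : ∃ o, 2 ^ f + p ^ (n + 1) = p ^ (n + 1) * o + 1 := ⟨_, hcount⟩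
    rw [← hPk, mul_comm, ← hN, ← hPN]
    refine ⟨o - 1, ?_⟩
    rw [Nat.mul_sub, mul_one]
    omega
  have hfeq := two_pow_order hp hp2 he hNe hf1 hdvd2 (hPk ▸ hfle)
  have hsurj : Function.Surjective ι := by
    rw [← MonoidHom.range_eq_top]
    refine Subgroup.eq_top_of_card_eq _ ?_
    rw [← Nat.card_congr (QuotientGroup.quotientKerEquivRange ι).toEquiv, hf, hfeq, ← hPk, pow_mul,
      Nat.card_pi, Finset.prod_const, Finset.card_univ, Fintype.card_fin]
    exact (congrArg (· ^ P) hRidx).symm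
  -- a commutator moved in one component only
  obtain ⟨a, ha⟩ := hsurj (Pi.mulSingle ⟨0, hP0⟩ (QuotientGroup.mk c₁))
  obtain ⟨b, hb⟩ := hsurj (Pi.mulSingle ⟨0, hP0⟩ (QuotientGroup.mk d₁))
  let z : Z := ⟨_, hcls a b⟩
  have hχR : ∀ x y : Q, (x ∈ R) → χ ⟨_, hcls x y⟩ = 1 := by
    intro x y hx
    have h1 : ρW (x * y * x⁻¹ * y⁻¹) = 1 := by
      rw [map_mul, map_mul, map_mul, hx y, mul_assoc (ρW y), ← map_mul ρW x, mul_inv_cancel, map_one,
        mul_one, ← map_mul, mul_inv_cancel, map_one]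
    obtain ⟨w, hw⟩ := exists_ne (0 : W)
    refine smul_left_injective K hw ?_
    show χ _ • w = (1 : K) • w
    rw [one_smul]
    have h3 := congrArg (fun f : Module.End K W => f w) ((hρWZ ⟨_, hcls x y⟩).symm.trans h1)
    simpa using h3
  have hz0 : χ z = χ ⟨_, hcls c₁ d₁⟩ := by
    have h0a : a⁻¹ * c₁ ∈ R := QuotientGroup.eq.mp (by simpa [hι] using congrFun ha ⟨0, hP0⟩)
    have h0b : b⁻¹ * d₁ ∈ R := QuotientGroup.eq.mp (by simpa [hι] using congrFun hb ⟨0, hP0⟩)
    have hcommW : ∀ x y : Q, ρW (x * y * x⁻¹ * y⁻¹) = χ ⟨_, hcls x y⟩ • (1 : Module.End K W) :=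
      fun x y => hρWZ ⟨_, hcls x y⟩
    obtain ⟨ka, hka⟩ := hRscal _ h0a
    obtain ⟨kb, hkb⟩ := hRscal _ h0b
    obtain ⟨ka', hka'⟩ := hRscal _ (R.inv_mem h0a)
    obtain ⟨kb', hkb'⟩ := hRscal _ (R.inv_mem h0b)
    have hk1 : ka * ka' = 1 ∧ kb * kb' = 1 := by
      obtain ⟨w, hw⟩ := exists_ne (0 : W)
      constructor
      · refine smul_left_injective K hw ?_
        show (ka * ka') • w = (1 : K) • w
        have h := congrArg (fun f : Module.End K W => f w) (show ρW (a⁻¹ * c₁) * ρW (a⁻¹ * c₁)⁻¹ = 1 by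
          rw [← map_mul, mul_inv_cancel, map_one])
        rw [hka, hka'] at h
        simpa [smul_smul, mul_comm] using h
      · refine smul_left_injective K hw ?_
        show (kb * kb') • w = (1 : K) • w
        have h := congrArg (fun f : Module.End K W => f w) (show ρW (b⁻¹ * d₁) * ρW (b⁻¹ * d₁)⁻¹ = 1 by
          rw [← map_mul, mul_inv_cancel, map_one])
        rw [hkb, hkb'] at h
        simpa [smul_smul, mul_comm] using h
    have hA : ρW c₁ = ka • ρW a := by
      rw [show c₁ = a * (a⁻¹ * c₁) by group, map_mul, hka, mul_smul_comm, mul_one]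
    have hB : ρW d₁ = kb • ρW b := by
      rw [show d₁ = b * (b⁻¹ * d₁) by group, map_mul, hkb, mul_smul_comm, mul_one]
    have hA' : ρW c₁⁻¹ = ka' • ρW a⁻¹ := by
      rw [show c₁⁻¹ = (a⁻¹ * c₁)⁻¹ * a⁻¹ by group, map_mul, hka', smul_mul_assoc, one_mul]
    have hB' : ρW d₁⁻¹ = kb' • ρW b⁻¹ := by
      rw [show d₁⁻¹ = (b⁻¹ * d₁)⁻¹ * b⁻¹ by group, map_mul, hkb', smul_mul_assoc, one_mul]
    have h := (hcommW c₁ d₁).symm
    rw [map_mul, map_mul, map_mul, hA, hB, hA', hB'] at h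
    simp only [smul_mul_assoc, mul_smul_comm, smul_smul] at h
    rw [← map_mul, ← map_mul, ← map_mul, hcommW a b, smul_smul] at h
    obtain ⟨w, hw⟩ := exists_ne (0 : W)
    refine smul_left_injective K hw ?_
    show χ z • w = χ _ • w
    have h' := congrArg (fun f : Module.End K W => f w) h
    simp only [LinearMap.smul_apply, Module.End.one_apply] at h'
    rw [h']
    congr 1
    calc χ z = (ka * ka') * (kb * kb') * χ z := by rw [hk1.1, hk1.2, one_mul, one_mul]
      _ = _ := by ring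
  have hzj : ∀ j : ℕ, 0 < j → j < P → χ ((σz ^ j) z) = 1 := by
    intro j hj0 hj
    have haj : (σ ^ j) a ∈ R := by
      have h := congrFun ha ⟨j, hj⟩
      rw [hι, Pi.mulSingle_eq_of_ne (by intro h'; exact hj0.ne' (congrArg Fin.val h'))] at h
      exact (QuotientGroup.eq_one_iff _).mp h
    have he : (σz ^ j) z = ⟨_, hcls ((σ ^ j) a) ((σ ^ j) b)⟩ := Subtype.ext (by
      rw [hσzpow]; simp [z])
    rw [he]
    exact hχR _ _ haj
  haveI : IsMulCommutative Z := ⟨⟨fun x y => Subtype.ext (hZc y x)⟩⟩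
  letI : CommGroup Z := { (inferInstance : Group Z) with mul_comm := fun x y => Subtype.ext (hZc y x) }
  set M := p ^ (n + 1) with hM
  let π : Z := ∏ i ∈ Finset.range M, (σz ^ i) z
  have hπfix : σz π = π := by
    have hlast : (σz ^ M) z = z := Subtype.ext (by rw [hσzpow, hσ]; rfl)
    have h1 := Finset.prod_range_succ (fun i => (σz ^ i) z) M
    have h2 := Finset.prod_range_succ' (fun i => (σz ^ i) z) M
    rw [h1, hlast, show (σz ^ 0) z = z from rfl] at h2
    rw [map_prod]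
    refine Eq.trans (Finset.prod_congr rfl fun i _ => ?_) (mul_right_cancel h2).symm
    rw [pow_succ', MulAut.mul_apply]
  have hπ1 : π = 1 := Subtype.ext (hfpf _ (congrArg Subtype.val hπfix))
  have hprod : χhom π = χ z ^ N := by
    rw [map_prod, hPN, prod_range_mul']
    have hl : ∀ l : ℕ, ∏ j ∈ Finset.range P, χhom ((σz ^ (P * l + j)) z) = χ z := by
      intro l
      have hsh : ∀ j, χhom ((σz ^ (P * l + j)) z) = χ ((σz ^ j) z) := by
        intro j
        induction l with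
        | zero => rw [mul_zero, zero_add]; rfl
        | succ l ih =>
          rw [← ih, show P * (l + 1) + j = P + (P * l + j) by ring, pow_add, MulAut.mul_apply]
          exact hχP _
      rw [Finset.prod_eq_single 0 (fun j hj hj0 => (hsh j).trans
          (hzj j (Nat.pos_of_ne_zero hj0) (Finset.mem_range.mp hj)))
        (fun h => absurd (Finset.mem_range.mpr hP0) h), hsh, pow_zero]
      rfl
    rw [Finset.prod_congr rfl (fun l _ => hl l), Finset.prod_const, Finset.card_range]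
  rw [hπ1, map_one] at hprod
  apply hχc
  rw [← hz0]
  obtain ⟨i, hi⟩ := (hQ.to_subgroup Z) z
  have h2 : χ z ^ (2 ^ i) = 1 := by
    rw [show χ z = χhom z from rfl, ← map_pow, hi, map_one]
  have hco : N.Coprime (2 ^ i) := by
    rw [hN]
    exact (((Nat.coprime_primes hp Nat.prime_two).mpr hp2).pow _ _)
  have h3 := pow_gcd_eq_one.mpr ⟨hprod.symm, h2⟩
  rwa [hco, pow_one] at h3

/-- The key lemma. -/
theorem fixed_of_norm_zero {p n : ℕ} (hp : p.Prime) (hp2 : p ≠ 2) {q : ℕ} [Fact q.Prime] (hqp : q ≠ p)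
    (hpK : (p : K) ≠ 0) (hq : (q : K) ≠ 0) (S : Module.End K V) (hS : S ^ (p ^ (n + 1)) = 1)
    (hsum : ∀ v, ∑ i ∈ Finset.range (p ^ (n + 1)), (S ^ i) v = 0) :
    ∀ (c : ℕ) {Q : Type u} [Group Q] [Finite Q], Nat.card Q = c → IsPGroup q Q → ∀ σ : MulAut Q,
      σ ^ (p ^ (n + 1)) = 1 → FPF σ → ∀ ρ : Q →* Module.End K V, Function.Injective ρ →
      (∀ a, S * ρ a = ρ (σ a) * S) → ∀ a, (σ ^ (p ^ n)) a = a := by
  intro c
  induction c using Nat.strong_induction_on with
  | _ c ih =>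
  intro Q _ _ hc hQ σ hσ hfpf ρ hρ hcomp
  set τ := σ ^ (p ^ n) with hτ
  have hτp : τ ^ p = 1 := by rw [hτ, ← pow_mul, ← pow_succ, hσ]
  have hστ : ∀ a, σ (τ a) = τ (σ a) := fun a => by
    rw [hτ, ← MulAut.mul_apply, ← pow_succ', pow_succ, MulAut.mul_apply]
  have hproper : ∀ H : Subgroup Q, (∀ x ∈ H, σ x ∈ H) → H ≠ ⊤ → ∀ x ∈ H, τ x = x := by
    intro H hH hne x hx
    have hlt : Nat.card H < c := by
      rw [← hc]
      exact lt_of_le_of_ne (Nat.le_of_dvd Nat.card_pos (Subgroup.card_subgroup_dvd_card H))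
        fun h => hne (Subgroup.eq_top_of_card_eq H h)
    have h := ih (Nat.card H) hlt rfl (hQ.to_subgroup H) (H28.subAut σ H hH)
      (MulEquiv.ext fun y => Subtype.ext (by rw [H28.subAut_pow_coe, hσ]; rfl))
      (H28.fpf_subAut hfpf H hH) (ρ.comp H.subtype) (hρ.comp H.subtype_injective)
      (fun y => hcomp y) ⟨x, hx⟩
    have h' := congrArg Subtype.val h
    rwa [H28.subAut_pow_coe] at h'
  by_contra hno
  push Not at hno
  obtain ⟨a₀, ha₀⟩ := hno
  -- `Q` is generated by commutators with `τ`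
  have hgen : closure (Set.range fun a : Q => a⁻¹ * τ a) = ⊤ := by
    by_contra hne
    set H := closure (Set.range fun a : Q => a⁻¹ * τ a) with hH
    have hσH : ∀ x ∈ H, σ x ∈ H := by
      intro x hx
      induction hx using Subgroup.closure_induction with
      | mem x hx =>
        obtain ⟨a, rfl⟩ := hx
        refine Subgroup.subset_closure ⟨σ a, ?_⟩
        show (σ a)⁻¹ * τ (σ a) = σ (a⁻¹ * τ a)
        rw [map_mul, map_inv, hστ]
      | one => rw [map_one]; exact one_mem _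
      | mul x y _ _ hx hy => rw [map_mul]; exact mul_mem hx hy
      | inv x _ hx => rw [map_inv]; exact inv_mem hx
    set c₀ := a₀⁻¹ * τ a₀ with hc₀
    have hfix : τ c₀ = c₀ := hproper H hσH hne c₀ (Subgroup.subset_closure ⟨a₀, rfl⟩)
    have hit : ∀ i : ℕ, (τ ^ i) a₀ = a₀ * c₀ ^ i := by
      intro i
      induction i with
      | zero => simp
      | succ i ihi =>
        rw [pow_succ', MulAut.mul_apply, ihi, map_mul, map_pow, hfix, pow_succ', ← mul_assoc, hc₀,
          mul_inv_cancel_left]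
    have h1 := hit p
    rw [hτp] at h1
    have h2 : c₀ ^ p = 1 := by
      have h3 : a₀ * c₀ ^ p = a₀ * 1 := by rw [mul_one]; exact h1.symm
      exact mul_left_cancel h3
    obtain ⟨i, hi⟩ := hQ c₀
    have h4 := pow_gcd_eq_one.mpr ⟨h2, hi⟩
    rw [((Nat.coprime_primes hp (Fact.out : q.Prime)).mpr (Ne.symm hqp)).pow_right i, pow_one] at h4
    exact ha₀ (inv_mul_eq_one.mp h4).symm
  -- normal subgroups fixed by `τ` are central
  have hcentral : ∀ M : Subgroup Q, M.Normal → (∀ x ∈ M, τ x = x) → M ≤ center Q := by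
    intro M hM hfix f hf
    rw [Subgroup.mem_center_iff]
    have hle : closure (Set.range fun a : Q => a⁻¹ * τ a) ≤ centralizer {f} := by
      rw [closure_le]
      rintro _ ⟨a, rfl⟩
      rw [SetLike.mem_coe, Subgroup.mem_centralizer_singleton_iff]
      have h1 : τ (a * f * a⁻¹) = a * f * a⁻¹ := hfix _ (hM.conj_mem f hf a)
      rw [map_mul, map_mul, map_inv, hfix f hf] at h1
      calc a⁻¹ * τ a * f = a⁻¹ * (τ a * f * (τ a)⁻¹) * τ a := by group
        _ = a⁻¹ * (a * f * a⁻¹) * τ a := by rw [h1]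
        _ = f * (a⁻¹ * τ a) := by group
    intro g
    exact Subgroup.mem_centralizer_singleton_iff.mp (hle (hgen ▸ Subgroup.mem_top g))
  by_cases hab : ∀ a b : Q, a * b = b * a
  · have h1 := abelian_step hQ hab hp σ hσ (fpf_of_closure hab τ hgen) hq ρ S hcomp hsum a₀
    apply ha₀
    have : a₀ = 1 := hρ (h1.trans (map_one ρ).symm)
    rw [this, map_one]
  have hZne : center Q ≠ ⊤ := fun h => hab fun a b =>
    (Subgroup.mem_center_iff.mp (h ▸ Subgroup.mem_top b) a)
  have hτZ := hproper (center Q) (H28.char_apply_mem σ _) hZne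
  haveI : Nontrivial Q := ⟨a₀, 1, fun h => ha₀ (by rw [h, map_one])⟩
  haveI : Group.IsNilpotent Q := hQ.isNilpotent
  haveI : Group.IsSolvable Q := inferInstance
  have hder := hproper (commutator Q) (H28.char_apply_mem σ _) (Group.IsSolvable.commutator_lt_top_of_nontrivial Q).ne
  have hD : commutator Q ≤ center Q := hcentral _ inferInstance hder
  have hcls : ∀ a b : Q, a * b * a⁻¹ * b⁻¹ ∈ center Q := fun a b =>
    hD (Subgroup.commutator_mem_commutator (Subgroup.mem_top a) (Subgroup.mem_top b))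
  have hτZm : ∀ x ∈ center Q, τ x ∈ center Q := fun x hx => by rw [hτZ x hx]; exact hx
  have hτq : FPF (H28.quotAut τ (center Q) hτZm) := by
    refine fpf_of_closure (fun x y => ?_) _ ?_
    · obtain ⟨a, rfl⟩ := QuotientGroup.mk_surjective x
      obtain ⟨b, rfl⟩ := QuotientGroup.mk_surjective y
      refine (QuotientGroup.eq.mpr ?_ : (QuotientGroup.mk (a * b) : Q ⧸ center Q) = QuotientGroup.mk (b * a))
      have h := hcls b⁻¹ a⁻¹
      simpa [mul_assoc] using h
    · rw [eq_top_iff]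
      rintro y -
      obtain ⟨g, rfl⟩ := QuotientGroup.mk_surjective y
      have h1 : QuotientGroup.mk' (center Q) g ∈ (closure (Set.range fun a : Q => a⁻¹ * τ a)).map
          (QuotientGroup.mk' (center Q)) := Subgroup.mem_map_of_mem _ (hgen ▸ Subgroup.mem_top g)
      rw [MonoidHom.map_closure] at h1
      refine Subgroup.closure_mono ?_ h1
      rintro _ ⟨_, ⟨a, rfl⟩, rfl⟩
      exact ⟨QuotientGroup.mk a, rfl⟩
  refine class_two_step hQ hp hp2 σ hσ hfpf hcls hτZ (fun a ha => ?_) ?_ hpK hq hqp ρ hρ S hS hcomp hsum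
  · refine (QuotientGroup.eq_one_iff a).mp (hτq _ ?_)
    rw [H28.quotAut_mk]
    exact (QuotientGroup.eq.mpr ha).symm
  · by_contra hall
    push Not at hall
    exact hZne (eq_top_iff.mpr fun a _ => hall a)

end H1.Shult
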